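import Groth.Agent.FEtSplitLib.Lift
import Groth.Agent.FEtProperLib.SepClosed
import Groth.Agent.S0240
import Groth.Agent.S0289

/-! # Étale-local triviality of covers of products with a proper factor -/

set_option autoImplicit false
set_option linter.style.haveILetI false
set_option backward.isDefEq.respectTransparency false
set_option backward.isDefEq.respectTransparency.types false
set_option maxHeartbeats 1000000

universe u

open CategoryTheory CategoryTheory.Limits AlgebraicGeometry WeightLib AlgSpRegLib FEtProper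

noncomputable section

namespace FEtKunneth

open FEtSplit

/-- An étale morphism bijective on geometric points is an isomorphism. -/
theorem isIso_of_points {A Z : Scheme.{u}} (φ : A ⟶ Z) [Etale φ] (hs : Function.Surjective φ)
    (hi : ∀ (K : Type u) [Field K] [IsAlgClosed K] (a b : Spec (CommRingCat.of K) ⟶ A), a ≫ φ = b ≫ φ → a = b) :
    IsIso φ := by
  haveI : Surjective (pullback.diagonal φ) := ⟨fun c => by
    let g := gpt c
    have e : g ≫ pullback.fst φ φ = g ≫ pullback.snd φ φ := hi _ _ _ (by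
      rw [Category.assoc, Category.assoc, pullback.condition])
    refine ⟨(g ≫ pullback.fst φ φ) (pt _), ?_⟩
    rw [← Scheme.Hom.comp_apply, show (g ≫ pullback.fst φ φ) ≫ pullback.diagonal φ = g from
      pullback.hom_ext (by simp) (by simp [e])]
    exact img_gpt c⟩
  haveI : IsIso (pullback.diagonal φ) := (isIso_iff_isOpenImmersion_and_surjective _).2 ⟨inferInstance, inferInstance⟩
  haveI : Mono φ := pullback.isIso_diagonal_iff φ |>.mp inferInstance
  haveI : IsOpenImmersion φ := IsOpenImmersion.of_flat_of_mono φ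
  haveI : Surjective φ := ⟨hs⟩
  exact (isIso_iff_isOpenImmersion_and_surjective _).2 ⟨inferInstance, inferInstance⟩

theorem isEquivalence_fst_algClosed {k K : Type u} [Field k] [Field K] [IsAlgClosed k] [IsAlgClosed K]
    {P : Scheme.{u}} (pP : P ⟶ Spec (CommRingCat.of k)) [IsProper pP]
    (κ : Spec (CommRingCat.of K) ⟶ Spec (CommRingCat.of k)) :
    (FEt.restrict (pullback.fst pP κ)).IsEquivalence := by
  obtain ⟨φ, rfl⟩ := Spec.map_surjective κ
  letI : Algebra k K := φ.hom.toAlgebra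
  exact FEtProper.isEquivalence_algClosed k K pP

theorem isEquivalence_fst_sepClosed {k K : Type u} [Field k] [Field K] [IsSepClosed k] [IsSepClosed K]
    {P : Scheme.{u}} (pP : P ⟶ Spec (CommRingCat.of k)) [IsProper pP]
    (κ : Spec (CommRingCat.of K) ⟶ Spec (CommRingCat.of k)) :
    (FEt.restrict (pullback.fst pP κ)).IsEquivalence := by
  obtain ⟨φ, rfl⟩ := Spec.map_surjective κ
  letI : Algebra k K := φ.hom.toAlgebra
  exact FEtProper.isEquivalence_sepClosed k K pP

/-- A proper scheme over a separably closed field and its base change to a strictly henselian ring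
have the same covers. -/
theorem isEquivalence_fst_strict {k R : Type u} [Field k] [IsSepClosed k] [CommRing R] [HenselianLocalRing R]
    [IsSepClosed (IsLocalRing.ResidueField R)] {P : Scheme.{u}} (pP : P ⟶ Spec (CommRingCat.of k)) [IsProper pP]
    (r : Spec (CommRingCat.of R) ⟶ Spec (CommRingCat.of k)) :
    (FEt.restrict (pullback.fst pP r)).IsEquivalence := by
  let q := Spec.map (CommRingCat.ofHom (IsLocalRing.residue R))
  let fR := pullback.snd pP r
  haveI : IsProper fR := MorphismProperty.pullback_snd _ _ ‹IsProper pP›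
  haveI := Groth.Agent.S0240.result R fR
  haveI := isEquivalence_fst_sepClosed pP (q ≫ r)
  have hp : IsPullback (pullback.fst fR q ≫ pullback.fst pP r) (pullback.snd fR q) pP (q ≫ r) :=
    (IsPullback.of_hasPullback fR q).paste_horiz (IsPullback.of_hasPullback pP r)
  haveI : (FEt.restrict hp.isoPullback.hom).IsEquivalence := Groth.Agent.S0289.result _
  have h₀ : (FEt.restrict (pullback.fst pP (q ≫ r)) ⋙ FEt.restrict hp.isoPullback.hom).IsEquivalence := inferInstance
  haveI : (FEt.restrict (pullback.fst pP r) ⋙ FEt.restrict (pullback.fst fR q)).IsEquivalence :=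
    @Functor.isEquivalence_of_iso _ _ _ _ _ _ ((MorphismProperty.Over.pullbackComp (P := FEt.prop.{u}) (Q := ⊤) hp.isoPullback.hom
      (pullback.fst pP (q ≫ r))).symm ≪≫ eqToIso (congrArg FEt.restrict hp.isoPullback_hom_fst) ≪≫
      MorphismProperty.Over.pullbackComp (P := FEt.prop.{u}) (Q := ⊤) (pullback.fst fR q) (pullback.fst pP r)) h₀
  exact Functor.isEquivalence_of_comp_right (FEt.restrict (pullback.fst pP r)) (FEt.restrict (pullback.fst fR q))

variable {k : Type u} [Field k] {P T Z : Scheme.{u}} (pP : P ⟶ Spec (CommRingCat.of k))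
  (pT : T ⟶ Spec (CommRingCat.of k))

/-- The product with a scheme over the second factor. -/
def mM {U : Scheme.{u}} (u : U ⟶ T) : pullback pP (u ≫ pT) ⟶ pullback pP pT :=
  pullback.lift (pullback.fst _ _) (pullback.snd _ _ ≫ u) (by rw [Category.assoc]; exact pullback.condition)

@[reassoc (attr := simp)]
theorem mM_fst {U : Scheme.{u}} (u : U ⟶ T) : mM pP pT u ≫ pullback.fst pP pT = pullback.fst _ _ :=
  pullback.lift_fst _ _ _

@[reassoc (attr := simp)]
theorem mM_snd {U : Scheme.{u}} (u : U ⟶ T) : mM pP pT u ≫ pullback.snd pP pT = pullback.snd _ _ ≫ u :=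
  pullback.lift_snd _ _ _

/-- The map of base changes along a morphism over the base. -/
def pH {Y B C C' : Scheme.{u}} (g : Y ⟶ B) (f : C ⟶ B) (ν : C' ⟶ C) {f' : C' ⟶ B} (h : ν ≫ f = f') :
    pullback g f' ⟶ pullback g f :=
  pullback.lift (pullback.fst _ _) (pullback.snd _ _ ≫ ν) (by rw [Category.assoc, h, pullback.condition])

@[reassoc (attr := simp)]
theorem pH_fst {Y B C C' : Scheme.{u}} (g : Y ⟶ B) (f : C ⟶ B) (ν : C' ⟶ C) {f' : C' ⟶ B} (h : ν ≫ f = f') :
    pH g f ν h ≫ pullback.fst g f = pullback.fst g f' :=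
  pullback.lift_fst _ _ _

@[reassoc (attr := simp)]
theorem pH_snd {Y B C C' : Scheme.{u}} (g : Y ⟶ B) (f : C ⟶ B) (ν : C' ⟶ C) {f' : C' ⟶ B} (h : ν ≫ f = f') :
    pH g f ν h ≫ pullback.snd g f = pullback.snd g f' ≫ ν :=
  pullback.lift_snd _ _ _

theorem isPullback_pH {Y B C C' : Scheme.{u}} (g : Y ⟶ B) (f : C ⟶ B) (ν : C' ⟶ C) {f' : C' ⟶ B} (h : ν ≫ f = f') :
    IsPullback (pH g f ν h) (pullback.snd g f') (pullback.snd g f) ν := by
  refine IsPullback.of_right ?_ (pH_snd g f ν h) (IsPullback.of_hasPullback g f)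
  rw [pH_fst, h]
  exact IsPullback.of_hasPullback g f'

theorem comp_pT {U U' : Scheme.{u}} {u : U ⟶ T} {u' : U' ⟶ T} {k' : U' ⟶ U} (h : k' ≫ u = u') :
    k' ≫ u ≫ pT = u' ≫ pT := by rw [← Category.assoc, h]

theorem pH_mM {U U' : Scheme.{u}} {u : U ⟶ T} {u' : U' ⟶ T} (k' : U' ⟶ U) (h : k' ≫ u = u') :
    pH pP (u ≫ pT) k' (comp_pT pT h) ≫ mM pP pT u = mM pP pT u' := by
  apply pullback.hom_ext <;> simp [h]

/-- A finite étale morphism inducing an isomorphism over a point is one over a neighbourhood, on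
geometric points. -/
theorem exists_open_bijective {AU ZU U R' AR ZR : Scheme.{u}} (φ : AU ⟶ ZU) [Etale φ] [IsFinite φ] (qZ : ZU ⟶ U)
    [IsProper qZ] (ρ : R' ⟶ U) (y : R') (κA : AR ⟶ AU) (ζ : ZR ⟶ ZU) (e : AR ≅ ZR) (pA : AR ⟶ R') (pZ : ZR ⟶ R')
    (sqA : IsPullback κA pA (φ ≫ qZ) ρ) (sqZ : IsPullback ζ pZ qZ ρ) (he : κA ≫ φ = e.hom ≫ ζ)
    (hp : e.hom ≫ pZ = pA) :
    ∃ O : U.Opens, ρ y ∈ O ∧ (∀ w, qZ w ∈ O → w ∈ Set.range φ) ∧
      (∀ (K : Type u) [Field K] [IsAlgClosed K] (a b : Spec (CommRingCat.of K) ⟶ AU), a ≫ φ = b ≫ φ →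
        (φ ≫ qZ) (a (pt K)) ∈ O → a = b) := by
  let qD : pullback φ φ ⟶ U := pullback.fst φ φ ≫ φ ≫ qZ
  haveI : IsProper qD := inferInstance
  let N : Set U := qZ '' (Set.range φ)ᶜ ∪ qD '' (Set.range (pullback.diagonal φ))ᶜ
  have hN : IsClosed N :=
    (qZ.isClosedMap _ φ.isOpenMap.isOpen_range.isClosed_compl).union
      (qD.isClosedMap _ (pullback.diagonal φ).isOpenEmbedding.isOpen_range.isClosed_compl)
  refine ⟨⟨Nᶜ, hN.isOpen_compl⟩, ?_, fun w hw => ?_, fun K _ _ a b hab ha => ?_⟩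
  · rintro (⟨w, hw, hwy⟩ | ⟨c, hc, hcy⟩)
    · obtain ⟨w', hw', -⟩ := Scheme.Pullback.exists_preimage_pullback (f := qZ) (g := ρ) w y hwy
      refine hw ⟨κA (e.inv (sqZ.isoPullback.inv w')), ?_⟩
      rw [← Scheme.Hom.comp_apply κA, he, Scheme.Hom.comp_apply, ← Scheme.Hom.comp_apply e.inv, e.inv_hom_id]
      show ζ (sqZ.isoPullback.inv w') = w
      rw [← hw', ← Scheme.Hom.comp_apply, sqZ.isoPullback_inv_fst]
    · obtain ⟨c', hc', -⟩ := Scheme.Pullback.exists_preimage_pullback (f := qD) (g := ρ) c y hcy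
      let g := gpt c'
      let gc := g ≫ pullback.fst qD ρ
      have hgc : gc (pt _) = c := by
        rw [Scheme.Hom.comp_apply, show g (pt _) = c' from img_gpt c', hc']
      have ha : ∀ pr : pullback φ φ ⟶ AU, pr ≫ φ = pullback.fst φ φ ≫ φ →
          (gc ≫ pr) ≫ φ ≫ qZ = (g ≫ pullback.snd qD ρ) ≫ ρ := fun pr hpr => by
        rw [Category.assoc gc, reassoc_of% hpr]
        show (g ≫ pullback.fst qD ρ) ≫ qD = _
        rw [Category.assoc, Category.assoc, pullback.condition]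
      have hpr₁ := sqA.lift_fst (gc ≫ pullback.fst φ φ) (g ≫ pullback.snd qD ρ) (ha _ rfl)
      have hpr₂ := sqA.lift_fst (gc ≫ pullback.snd φ φ) (g ≫ pullback.snd qD ρ) (ha _ pullback.condition.symm)
      have e₁ : sqA.lift (gc ≫ pullback.fst φ φ) (g ≫ pullback.snd qD ρ) (ha _ rfl) =
          sqA.lift (gc ≫ pullback.snd φ φ) (g ≫ pullback.snd qD ρ) (ha _ pullback.condition.symm) := by
        rw [← cancel_mono e.hom]
        apply sqZ.hom_ext
        · rw [Category.assoc _ e.hom, Category.assoc _ e.hom, ← he, reassoc_of% hpr₁, reassoc_of% hpr₂, pullback.condition]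
        · rw [Category.assoc _ e.hom, Category.assoc _ e.hom, hp, sqA.lift_snd, sqA.lift_snd]
      rw [e₁, hpr₂] at hpr₁
      refine hc ⟨(gc ≫ pullback.fst φ φ) (pt _), ?_⟩
      rw [← Scheme.Hom.comp_apply, show (gc ≫ pullback.fst φ φ) ≫ pullback.diagonal φ = gc from
        pullback.hom_ext (by simp) (by simp [hpr₁]), hgc]
  · by_contra hne
    exact hw (Or.inl ⟨_, hne, rfl⟩)
  · let c : Spec (CommRingCat.of K) ⟶ pullback φ φ := pullback.lift a b hab
    have hr : c (pt K) ∈ Set.range (pullback.diagonal φ) := by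
      by_contra hne
      refine ha (Or.inr ⟨_, hne, ?_⟩)
      show (c ≫ qD) (pt K) = _
      rw [show c ≫ qD = a ≫ φ ≫ qZ from pullback.lift_fst_assoc _ _ _ _]
      rfl
    have hd : IsOpenImmersion.lift (pullback.diagonal φ) c (range_le c hr) ≫ pullback.diagonal φ = c :=
      IsOpenImmersion.lift_fac _ _ _
    have h1 := congrArg (· ≫ pullback.fst φ φ) hd
    have h2 := congrArg (· ≫ pullback.snd φ φ) hd
    simp only [Category.assoc, pullback.diagonal_fst, pullback.diagonal_snd, Category.comp_id, c,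
      pullback.lift_fst, pullback.lift_snd] at h1 h2
    exact h1.symm.trans h2

variable (z : Z ⟶ pullback pP pT)

/-- An étale neighbourhood over which the cover comes from the first factor. -/
structure Chart where
  U : Scheme.{u}
  u : U ⟶ T
  et : Etale u
  A : FEt.Cat P
  q : pullback A.hom (pullback.fst pP (u ≫ pT)) ⟶ Z
  sq : IsPullback q (pullback.snd _ _) z (mM pP pT u)

/-- A morphism from the cover over a strict henselization is defined over an étale neighbourhood. -/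
theorem exists_stage_map [IsProper pP] [LocallyOfFinitePresentation z] {A' : Scheme.{u}} (a : A' ⟶ P) [IsFinite a]
    {B : CommRingCat.{u}} (gA : Spec B ⟶ T) (p : Ideal B) [p.IsPrime]
    (qR : pullback a (pullback.fst pP ((Spec.map (CommRingCat.ofHom (shι p)) ≫ gA) ≫ pT)) ⟶ Z)
    (hqR : qR ≫ z = pullback.snd _ _ ≫ mM pP pT (Spec.map (CommRingCat.ofHom (shι p)) ≫ gA)) :
    ∃ (U : Scheme.{u}) (u : U ⟶ Spec B) (ρ : Spec (CommRingCat.of (ShAt p)) ⟶ U)
      (hρ : ρ ≫ u ≫ gA = Spec.map (CommRingCat.ofHom (shι p)) ≫ gA)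
      (qU : pullback a (pullback.fst pP ((u ≫ gA) ≫ pT)) ⟶ Z),
      Etale u ∧ qU ≫ z = pullback.snd _ _ ≫ mM pP pT (u ≫ gA) ∧
      pH a (pullback.fst pP ((u ≫ gA) ≫ pT)) (pH pP ((u ≫ gA) ≫ pT) ρ (comp_pT pT hρ)) (pH_fst ..) ≫ qU = qR := by
  let r₀ := Spec.map (CommRingCat.ofHom (shι p))
  let YO := pullback a (pullback.fst pP (gA ≫ pT))
  let fA : YO ⟶ Spec B := pullback.snd _ _ ≫ pullback.snd _ _
  haveI : IsProper fA := inferInstance
  let J : ∀ {U : Scheme.{u}} (u : U ⟶ Spec B),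
      pullback a (pullback.fst pP ((u ≫ gA) ≫ pT)) ⟶ pullback fA u := fun {U} u =>
    pullback.lift (pH a (pullback.fst pP (gA ≫ pT)) (pH pP (gA ≫ pT) u (comp_pT pT (rfl : u ≫ gA = _))) (pH_fst ..))
      (pullback.snd _ _ ≫ pullback.snd _ _) (by simp [fA])
  have hc : pullback.fst fA r₀ ≫ pullback.snd a (pullback.fst pP (gA ≫ pT)) ≫ pullback.snd pP (gA ≫ pT) =
      pullback.snd fA r₀ ≫ r₀ := pullback.condition
  let μ : pullback fA r₀ ⟶ pullback pP ((r₀ ≫ gA) ≫ pT) :=
    pullback.lift (pullback.fst _ _ ≫ pullback.snd _ _ ≫ pullback.fst _ _) (pullback.snd _ _) (by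
      simp only [Category.assoc]
      rw [pullback.condition (f := pP), reassoc_of% hc])
  let Ji : pullback fA r₀ ⟶ pullback a (pullback.fst pP ((r₀ ≫ gA) ≫ pT)) :=
    pullback.lift (pullback.fst _ _ ≫ pullback.fst _ _) μ (by
      rw [Category.assoc, pullback.condition, pullback.lift_fst])
  have hJ : J r₀ ≫ Ji = 𝟙 _ := by
    apply pullback.hom_ext
    · simp [J, Ji]
    · apply pullback.hom_ext <;> simp [J, Ji, μ]
  have hμ : μ ≫ mM pP pT (r₀ ≫ gA) = pullback.fst _ _ ≫ pullback.snd _ _ ≫ mM pP pT gA := by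
    apply pullback.hom_ext
    · simp [μ]
    · simp only [μ, Category.assoc, mM_snd, pullback.lift_snd_assoc]
      rw [reassoc_of% hc]
  obtain ⟨U, u, ρ, hρ, τ, hu, hτ⟩ := exists_stage_sheets p fA (pullback.snd _ _ ≫ mM pP pT gA) z
    (fun _ : PUnit.{u + 1} => Ji ≫ qR) (fun _ => by
      rw [Category.assoc, hqR, ← Category.assoc, pullback.lift_snd, hμ])
  have hρ' : ρ ≫ u ≫ gA = r₀ ≫ gA := by rw [← Category.assoc, hρ]
  refine ⟨U, u, ρ, hρ', J u ≫ τ ⟨⟩, hu, ?_, ?_⟩
  · refine (Category.assoc _ _ _).trans ?_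
    rw [(hτ ⟨⟩).1]
    apply pullback.hom_ext <;> simp [J]
  · have h1 : pH a (pullback.fst pP ((u ≫ gA) ≫ pT)) (pH pP ((u ≫ gA) ≫ pT) ρ (comp_pT pT hρ')) (pH_fst ..) ≫ J u =
        J r₀ ≫ pullback.lift (pullback.fst _ _) (pullback.snd _ _ ≫ ρ)
          (by rw [Category.assoc, hρ, pullback.condition]) := by
      apply pullback.hom_ext
      · apply pullback.hom_ext
        · simp [J]
        · apply pullback.hom_ext
          · simp [J]
          · simp [J, hρ]
            rfl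
      · simp [J]
    rw [reassoc_of% h1, (hτ ⟨⟩).2, reassoc_of% hJ]

theorem exists_strict_model [IsAlgClosed k] [IsProper pP] [IsFinite z] [Etale z] {R : Type u} [CommRing R]
    [HenselianLocalRing R] [IsSepClosed (IsLocalRing.ResidueField R)] (r : Spec (CommRingCat.of R) ⟶ T) :
    ∃ (A : FEt.Cat P) (eL : pullback A.hom (pullback.fst pP (r ≫ pT)) ≅ pullback z (mM pP pT r)),
      eL.hom ≫ pullback.snd z (mM pP pT r) = pullback.snd _ _ := by
  haveI := isEquivalence_fst_strict pP (r ≫ pT)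
  obtain ⟨A, ⟨eA⟩⟩ : (FEt.restrict (pullback.fst pP (r ≫ pT))).essImage
      ((FEt.restrict (mM pP pT r)).obj (MorphismProperty.Over.mk ⊤ z ⟨‹IsFinite z›, ‹Etale z›⟩)) :=
    Functor.EssSurj.mem_essImage _ _
  exact ⟨A, (MorphismProperty.Over.forget _ _ _ ⋙ Over.forget _).mapIso eA, MorphismProperty.Over.w eA.hom⟩

theorem exists_chart_affine [IsAlgClosed k] [IsProper pP] [IsFinite z] [Etale z] {B : CommRingCat.{u}}
    (gA : Spec B ⟶ T) [IsOpenImmersion gA] (p : Ideal B) [p.IsPrime] :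
    ∃ c : Chart pP pT z,
      (Spec.map (CommRingCat.ofHom (shι p)) ≫ gA) (IsLocalRing.closedPoint (ShAt p)) ∈ Set.range c.u := by
  haveI : IsSepClosed (IsLocalRing.ResidueField (ShAt p)) :=
    (Hensel.IsStrictHenselization.isSepClosure (R := Localization.AtPrime p) (S := ShAt p)).sep_closed
  obtain ⟨A, eL, heL⟩ := exists_strict_model pP pT z (Spec.map (CommRingCat.ofHom (shι p)) ≫ gA)
  haveI : IsFinite A.hom := A.prop.1
  haveI : Etale A.hom := A.prop.2
  obtain ⟨U, u, ρ, hρ, qU, hu, hqU, hκq⟩ := exists_stage_map pP pT z A.hom gA p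
    (eL.hom ≫ pullback.fst _ _) ((Category.assoc _ _ _).trans ((congrArg (eL.hom ≫ ·) pullback.condition).trans
      ((Category.assoc _ _ _).symm.trans (congrArg (· ≫ _) heL))))
  let φ : pullback A.hom (pullback.fst pP ((u ≫ gA) ≫ pT)) ⟶ pullback z (mM pP pT (u ≫ gA)) :=
    pullback.lift qU (pullback.snd _ _) hqU
  have hφ : φ ≫ pullback.snd z _ = pullback.snd _ _ := pullback.lift_snd _ _ _
  haveI : Etale (φ ≫ pullback.snd z (mM pP pT (u ≫ gA))) := by rw [hφ]; infer_instance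
  haveI : Etale φ := Etale.of_comp φ (pullback.snd z (mM pP pT (u ≫ gA)))
  haveI : IsFinite (φ ≫ pullback.snd z (mM pP pT (u ≫ gA))) := by rw [hφ]; infer_instance
  haveI : IsFinite φ := IsFinite.of_comp φ (pullback.snd z (mM pP pT (u ≫ gA)))
  let sU := pullback.snd pP ((u ≫ gA) ≫ pT)
  let νR := pH pP ((u ≫ gA) ≫ pT) ρ (comp_pT pT hρ)
  have sqν := isPullback_pH pP ((u ≫ gA) ≫ pT) ρ (comp_pT pT hρ)
  have hνm : νR ≫ mM pP pT (u ≫ gA) = mM pP pT (Spec.map (CommRingCat.ofHom (shι p)) ≫ gA) := pH_mM pP pT ρ hρ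
  have sqA := (isPullback_pH A.hom (pullback.fst pP ((u ≫ gA) ≫ pT)) νR (pH_fst ..)).paste_vert sqν
  have sqZ := (isPullback_pH z (mM pP pT (u ≫ gA)) νR hνm).paste_vert sqν
  obtain ⟨O, hy, hsurj, hinj⟩ := exists_open_bijective φ (pullback.snd _ _ ≫ sU) ρ (IsLocalRing.closedPoint (ShAt p))
    _ _ eL _ _ (by rw [reassoc_of% hφ]; exact sqA) sqZ (by
      apply pullback.hom_ext
      · simp only [φ, Category.assoc, pullback.lift_fst, pH_fst]; exact hκq
      · simp only [φ, Category.assoc, pullback.lift_snd, pH_snd]; rw [reassoc_of% heL])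
    (by rw [reassoc_of% heL])
  let u' : (O : Scheme.{u}) ⟶ T := O.ι ≫ u ≫ gA
  let νO := pH pP ((u ≫ gA) ≫ pT) O.ι (comp_pT pT (rfl : O.ι ≫ u ≫ gA = u'))
  have sqO := isPullback_pH pP ((u ≫ gA) ≫ pT) O.ι (comp_pT pT (rfl : O.ι ≫ u ≫ gA = u'))
  haveI : IsOpenImmersion νO := MorphismProperty.of_isPullback (P := @IsOpenImmersion) sqO.flip inferInstance
  have hνOm : νO ≫ mM pP pT (u ≫ gA) = mM pP pT u' := pH_mM pP pT O.ι rfl
  let κO := pH A.hom (pullback.fst pP ((u ≫ gA) ≫ pT)) νO (pH_fst ..)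
  let ζO := pH z (mM pP pT (u ≫ gA)) νO hνOm
  have sqAO := (isPullback_pH A.hom (pullback.fst pP ((u ≫ gA) ≫ pT)) νO (pH_fst ..)).paste_vert sqO
  have sqZO := (isPullback_pH z (mM pP pT (u ≫ gA)) νO hνOm).paste_vert sqO
  haveI : IsOpenImmersion κO := MorphismProperty.of_isPullback (P := @IsOpenImmersion) sqAO.flip inferInstance
  haveI : IsOpenImmersion ζO := MorphismProperty.of_isPullback (P := @IsOpenImmersion) sqZO.flip inferInstance
  let φO : pullback A.hom (pullback.fst pP (u' ≫ pT)) ⟶ pullback z (mM pP pT u') :=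
    pullback.lift (κO ≫ qU) (pullback.snd _ _) ((Category.assoc _ _ _).trans ((congrArg (κO ≫ ·) hqU).trans
      ((pH_snd_assoc ..).trans (congrArg (_ ≫ ·) hνOm))))
  have hφO : φO ≫ ζO = κO ≫ φ := by
    apply pullback.hom_ext
    · simp [φO, ζO, φ]
    · simp [φO, ζO, φ, κO]
      rfl
  have hφO₂ : φO ≫ pullback.snd z (mM pP pT u') = pullback.snd _ _ := pullback.lift_snd _ _ _
  haveI : Etale (φO ≫ pullback.snd z (mM pP pT u')) := by rw [hφO₂]; infer_instance
  haveI : Etale φO := Etale.of_comp φO (pullback.snd z (mM pP pT u'))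
  have hOin : ∀ w, (ζO ≫ pullback.snd z (mM pP pT (u ≫ gA)) ≫ sU) w ∈ O := fun w => by
    rw [sqZO.w]
    exact ((pullback.snd z (mM pP pT u') ≫ pullback.snd pP (u' ≫ pT)) w).2
  haveI : IsIso φO := by
    refine isIso_of_points φO (fun w => ?_) fun K _ _ a b hab => ?_
    · obtain ⟨a, ha⟩ := hsurj (ζO w) (hOin w)
      have haO : (pullback.snd A.hom _ ≫ sU) a ∈ O := by
        rw [show pullback.snd A.hom _ ≫ sU = φ ≫ pullback.snd z _ ≫ sU by rw [reassoc_of% hφ],
          Scheme.Hom.comp_apply, ha]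
        exact hOin w
      obtain ⟨a', ha', -⟩ := Scheme.Pullback.exists_preimage_pullback
        (f := pullback.snd A.hom _ ≫ sU) (g := O.ι) a ⟨_, haO⟩ rfl
      refine ⟨sqAO.isoPullback.inv a', ζO.isOpenEmbedding.injective ?_⟩
      rw [← Scheme.Hom.comp_apply φO, hφO, Scheme.Hom.comp_apply, ← Scheme.Hom.comp_apply _ κO,
        IsPullback.isoPullback_inv_fst, ha', ha]
    · rw [← cancel_mono κO]
      refine hinj K _ _ (by simpa only [Category.assoc, hφO] using congrArg (· ≫ ζO) hab) ?_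
      rw [← Scheme.Hom.comp_apply (a ≫ κO), show (a ≫ κO) ≫ φ ≫ pullback.snd z _ ≫ sU =
          (a ≫ φO) ≫ ζO ≫ pullback.snd z _ ≫ sU by simp only [Category.assoc, reassoc_of% hφO], Scheme.Hom.comp_apply]
      exact hOin _
  haveI : Etale u := hu
  refine ⟨{ U := O, u := u', et := inferInstance, A := A, q := φO ≫ pullback.fst _ _,
            sq := (IsPullback.of_hasPullback z (mM pP pT u')).of_iso (asIso φO).symm (Iso.refl _) (Iso.refl _)
              (Iso.refl _) (by simp) (by simp [← hφO₂]) (by simp) (by simp) }, ⟨ρ (IsLocalRing.closedPoint (ShAt p)), hy⟩, ?_⟩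
  show (u ≫ gA) (ρ (IsLocalRing.closedPoint (ShAt p))) = _
  rw [← Scheme.Hom.comp_apply, hρ]

theorem exists_chart [IsAlgClosed k] [IsProper pP] [IsFinite z] [Etale z] (t : T) :
    ∃ c : Chart pP pT z, t ∈ Set.range c.u := by
  obtain ⟨_, ⟨O₁, hO₁', rfl⟩, hs, -⟩ := T.isBasis_affineOpens.exists_subset_of_mem_open (Set.mem_univ t) isOpen_univ
  have hO₁ : IsAffineOpen O₁ := hO₁'
  obtain ⟨c, hc⟩ := exists_chart_affine pP pT z hO₁.fromSpec (hO₁.primeIdealOf ⟨t, hs⟩).asIdeal
  refine ⟨c, ?_⟩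
  rw [Scheme.Hom.comp_apply, show Spec.map (CommRingCat.ofHom (shι (hO₁.primeIdealOf ⟨t, hs⟩).asIdeal))
    (IsLocalRing.closedPoint _) = hO₁.primeIdealOf ⟨t, hs⟩ from
      PrimeSpectrum.ext (EtProperH0Lib.comap_shι _)] at hc
  have h' : hO₁.fromSpec (hO₁.primeIdealOf ⟨t, hs⟩) = t := IsAffineOpen.fromSpec_primeIdealOf hO₁ ⟨t, hs⟩
  exact Eq.mp (congrArg (· ∈ Set.range c.u) h') hc

end FEtKunneth

end
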