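import Groth.Agent.FEtKunnethLib.Chart
import Groth.Agent.FEtSplitLib.SteinNear
import Groth.Agent.S0296

/-! # Constancy of families of covers of a product with a proper factor -/

set_option autoImplicit false
set_option linter.style.haveILetI false
set_option backward.isDefEq.respectTransparency false
set_option backward.isDefEq.respectTransparency.types false
set_option maxHeartbeats 1000000

universe u

open CategoryTheory CategoryTheory.Limits AlgebraicGeometry WeightLib AlgSpRegLib FEtProper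

noncomputable section

namespace FEtKunneth

open FEtSplit

theorem epi_spec_field {k K : Type u} [Field k] [Field K] (κ : Spec (CommRingCat.of K) ⟶ Spec (CommRingCat.of k)) :
    Epi κ := by
  obtain ⟨φ, rfl⟩ := Spec.map_surjective κ
  letI := φ.hom.toAlgebra
  haveI : Flat (Spec.map φ) :=
    Flat.SpecMap_iff.mpr ((RingHom.flat_algebraMap_iff (R := k) (S := K)).mpr inferInstance)
  haveI : Surjective (Spec.map φ) := ⟨fun x => ⟨pt K, Subsingleton.elim _ _⟩⟩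
  exact Flat.epi_of_flat_of_surjective _

/-- A point of a finite étale cover over a point rational over an algebraically closed field is rational. -/
theorem exists_rat_point {k K : Type u} [Field k] [IsAlgClosed k] [Field K] {P : Scheme.{u}} (A : FEt.Cat P)
    (y : Spec (CommRingCat.of k) ⟶ P) (κ : Spec (CommRingCat.of K) ⟶ Spec (CommRingCat.of k))
    (m : Spec (CommRingCat.of K) ⟶ A.left) (hm : m ≫ A.hom = κ ≫ y) :
    ∃ a : FEt.fiberObj y A, κ ≫ a.1 = m := by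
  haveI : IsFinite A.hom := A.prop.1
  haveI : Etale A.hom := A.prop.2
  obtain ⟨ι, -, e, he⟩ := splits_algClosed (pullback.snd A.hom y)
  let c : Spec (CommRingCat.of K) ⟶ ∐ fun _ : ι => Spec (CommRingCat.of k) := pullback.lift m κ hm ≫ e.hom
  obtain ⟨i, hi⟩ : ∃ i, c (pt K) ∈ Set.range (Sigma.ι (fun _ : ι => Spec (CommRingCat.of k)) i) :=
    ⟨_, mem_range_sIdx _⟩
  have hf : IsOpenImmersion.lift (Sigma.ι (fun _ : ι => Spec (CommRingCat.of k)) i) c (range_le c hi) ≫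
      Sigma.ι (fun _ : ι => Spec (CommRingCat.of k)) i = c := IsOpenImmersion.lift_fac _ _ _
  have hκ : IsOpenImmersion.lift (Sigma.ι (fun _ : ι => Spec (CommRingCat.of k)) i) c (range_le c hi) = κ := by
    refine Eq.trans ?_ (show c ≫ Sigma.desc (fun _ : ι => 𝟙 (Spec (CommRingCat.of k))) = κ by
      simp only [c, Category.assoc]
      rw [he, pullback.lift_snd])
    have h := congrArg (· ≫ Sigma.desc fun _ : ι => 𝟙 (Spec (CommRingCat.of k))) hf
    simpa only [Category.assoc, Sigma.ι_desc, Category.comp_id] using h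
  have hs : (Sigma.ι (fun _ : ι => Spec (CommRingCat.of k)) i ≫ e.inv) ≫ pullback.snd A.hom y = 𝟙 _ := by
    rw [← he]; simp
  refine ⟨⟨(Sigma.ι (fun _ : ι => Spec (CommRingCat.of k)) i ≫ e.inv) ≫ pullback.fst A.hom y, ?_⟩, ?_⟩
  · simp only [Category.assoc, pullback.condition]
    simpa only [Category.assoc, Category.id_comp] using congrArg (· ≫ y) hs
  · rw [hκ] at hf
    show κ ≫ (Sigma.ι (fun _ : ι => Spec (CommRingCat.of k)) i ≫ e.inv) ≫ pullback.fst A.hom y = m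
    rw [Category.assoc, reassoc_of% hf]
    simp only [c, Category.assoc]
    rw [e.hom_inv_id_assoc, pullback.lift_fst]

variable {k : Type u} [Field k] {P T Z : Scheme.{u}} (pP : P ⟶ Spec (CommRingCat.of k))
  (pT : T ⟶ Spec (CommRingCat.of k)) (z : Z ⟶ pullback pP pT)

/-- A point of a chart over a geometric point lifts to the base change. -/
theorem exists_point_lift (c : Chart pP pT z) {S : Scheme.{u}} (ν : S ⟶ c.U) {x : S ⟶ T} (hν : ν ≫ c.u = x)
    {W : Scheme.{u}} (m : W ⟶ pullback c.A.hom (pullback.fst pP (c.u ≫ pT))) (w : W ⟶ S)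
    (h : m ≫ pullback.snd _ _ ≫ pullback.snd _ _ = w ≫ ν) :
    ∃ n : W ⟶ pullback c.A.hom (pullback.fst pP (x ≫ pT)),
      n ≫ pH c.A.hom (pullback.fst pP (c.u ≫ pT)) (pH pP (c.u ≫ pT) ν (comp_pT pT hν)) (pH_fst ..) = m ∧
      n ≫ pullback.fst _ _ = m ≫ pullback.fst _ _ ∧
      n ≫ pullback.snd _ _ ≫ pullback.fst _ _ = m ≫ pullback.fst _ _ ≫ c.A.hom ∧
      n ≫ pullback.snd _ _ ≫ pullback.snd _ _ = w := by
  subst hν
  have hc : (m ≫ pullback.fst _ _ ≫ c.A.hom) ≫ pP = w ≫ (ν ≫ c.u) ≫ pT := by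
    simp only [Category.assoc]
    rw [pullback.condition_assoc, pullback.condition, reassoc_of% h]
  refine ⟨pullback.lift (m ≫ pullback.fst _ _) (pullback.lift (m ≫ pullback.fst _ _ ≫ c.A.hom) w hc)
    (by rw [pullback.lift_fst, Category.assoc]), ?_, pullback.lift_fst _ _ _, ?_, ?_⟩
  · apply pullback.hom_ext
    · rw [Category.assoc, pH_fst, pullback.lift_fst]
    · rw [Category.assoc, pH_snd, pullback.lift_snd_assoc]
      apply pullback.hom_ext
      · rw [Category.assoc, pH_fst, pullback.lift_fst, Category.assoc, pullback.condition]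
      · rw [Category.assoc, pH_snd, pullback.lift_snd_assoc, Category.assoc]
        exact h.symm
  · rw [pullback.lift_snd_assoc, pullback.lift_fst]
  · rw [pullback.lift_snd_assoc, pullback.lift_snd]

/-- Two charts with a common geometric point have the same cover, compatibly over that point. -/
theorem exists_iso_of_geom [IsAlgClosed k] [IsProper pP] (c₁ c₂ : Chart pP pT z) {K : Type u} [Field K]
    [IsAlgClosed K] (x : Spec (CommRingCat.of K) ⟶ T) (ν₁ : Spec (CommRingCat.of K) ⟶ c₁.U)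
    (ν₂ : Spec (CommRingCat.of K) ⟶ c₂.U) (hν₁ : ν₁ ≫ c₁.u = x) (hν₂ : ν₂ ≫ c₂.u = x) :
    ∃ e : c₁.A ≅ c₂.A, ∀ (W : Scheme.{u}) (m₁ : W ⟶ pullback c₁.A.hom (pullback.fst pP (c₁.u ≫ pT)))
      (m₂ : W ⟶ pullback c₂.A.hom (pullback.fst pP (c₂.u ≫ pT))) (w : W ⟶ Spec (CommRingCat.of K)),
      m₁ ≫ pullback.snd _ _ ≫ pullback.snd _ _ = w ≫ ν₁ →
      m₂ ≫ pullback.snd _ _ ≫ pullback.snd _ _ = w ≫ ν₂ →
      m₁ ≫ pullback.fst _ _ ≫ e.hom.left = m₂ ≫ pullback.fst _ _ → m₁ ≫ c₁.q = m₂ ≫ c₂.q := by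
  have sq : ∀ (c : Chart pP pT z) (ν : Spec (CommRingCat.of K) ⟶ c.U) (hν : ν ≫ c.u = x),
      IsPullback (pH c.A.hom (pullback.fst pP (c.u ≫ pT)) (pH pP (c.u ≫ pT) ν (comp_pT pT hν)) (pH_fst ..) ≫ c.q)
        (pullback.snd c.A.hom (pullback.fst pP (x ≫ pT))) z (mM pP pT x) := fun c ν hν => by
    have := (isPullback_pH c.A.hom (pullback.fst pP (c.u ≫ pT)) (pH pP (c.u ≫ pT) ν (comp_pT pT hν))
      (pH_fst ..)).paste_horiz c.sq
    rwa [pH_mM pP pT ν hν] at this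
  haveI := isEquivalence_fst_algClosed pP (x ≫ pT)
  let γ : (FEt.restrict (pullback.fst pP (x ≫ pT))).obj c₁.A ≅ (FEt.restrict (pullback.fst pP (x ≫ pT))).obj c₂.A :=
    MorphismProperty.Over.isoMk ((sq c₁ ν₁ hν₁).isoIsPullback _ _ (sq c₂ ν₂ hν₂))
      (IsPullback.isoIsPullback_hom_snd _ _ _ _)
  let e := (FEt.restrict (pullback.fst pP (x ≫ pT))).preimageIso γ
  have hg : ((FEt.restrict (pullback.fst pP (x ≫ pT))).map e.hom).left =
      ((sq c₁ ν₁ hν₁).isoIsPullback _ _ (sq c₂ ν₂ hν₂)).hom := by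
    show ((FEt.restrict (pullback.fst pP (x ≫ pT))).map
      ((FEt.restrict (pullback.fst pP (x ≫ pT))).preimage γ.hom)).left = _
    rw [Functor.map_preimage]
    rfl
  have hfst : ((FEt.restrict (pullback.fst pP (x ≫ pT))).map e.hom).left ≫ pullback.fst _ _ =
      pullback.fst _ _ ≫ e.hom.left := pullback.lift_fst _ _ _
  have hsnd : ((FEt.restrict (pullback.fst pP (x ≫ pT))).map e.hom).left ≫ pullback.snd _ _ =
      pullback.snd _ _ := pullback.lift_snd _ _ _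
  refine ⟨e, fun W m₁ m₂ w h₁ h₂ hm => ?_⟩
  obtain ⟨n₁, hn₁, f₁, p₁, s₁⟩ := exists_point_lift pP pT z c₁ ν₁ hν₁ m₁ w h₁
  obtain ⟨n₂, hn₂, f₂, p₂, s₂⟩ := exists_point_lift pP pT z c₂ ν₂ hν₂ m₂ w h₂
  have hn : n₁ ≫ ((sq c₁ ν₁ hν₁).isoIsPullback _ _ (sq c₂ ν₂ hν₂)).hom = n₂ := by
    rw [← hg]
    apply pullback.hom_ext
    · refine (Category.assoc _ _ _).trans ((congrArg (n₁ ≫ ·) hfst).trans ?_)
      rw [reassoc_of% f₁, hm, f₂]
    · refine (Category.assoc _ _ _).trans ((congrArg (n₁ ≫ ·) hsnd).trans ?_)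
      apply pullback.hom_ext
      · rw [Category.assoc, Category.assoc, p₁, p₂, ← reassoc_of% hm]
        exact congrArg (fun t => m₁ ≫ pullback.fst _ _ ≫ t) (MorphismProperty.Over.w e.hom).symm
      · rw [Category.assoc, Category.assoc, s₁, s₂]
  rw [← hn₁, ← hn₂, ← hn]
  simp only [Category.assoc]
  rw [IsPullback.isoIsPullback_hom_fst]

theorem exists_iso_of_overlap [IsAlgClosed k] [IsProper pP] (c₁ c₂ : Chart pP pT z) (t : T)
    (h₁ : t ∈ Set.range c₁.u) (h₂ : t ∈ Set.range c₂.u) : Nonempty (c₁.A ≅ c₂.A) := by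
  obtain ⟨x₁, hx₁⟩ := h₁
  obtain ⟨x₂, hx₂⟩ := h₂
  haveI := c₁.et
  haveI := c₂.et
  haveI : LocallyQuasiFinite c₁.u := locallyQuasiFinite_of_etale _
  haveI : LocallyQuasiFinite c₂.u := locallyQuasiFinite_of_etale _
  obtain ⟨⟨ν₁, hν₁⟩, -⟩ := exists_gpt c₁.u x₁ (gpt t) (hx₁.trans (img_gpt t).symm)
  obtain ⟨⟨ν₂, hν₂⟩, -⟩ := exists_gpt c₂.u x₂ (gpt t) (hx₂.trans (img_gpt t).symm)
  obtain ⟨e, -⟩ := exists_iso_of_geom pP pT z c₁ c₂ _ ν₁ ν₂ hν₁ hν₂
  exact ⟨e⟩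

/-- Over a connected base all charts have the same cover. -/
theorem chart_const [IsAlgClosed k] [IsProper pP] [IsFinite z] [Etale z] [PreconnectedSpace T]
    (c₀ c : Chart pP pT z) (t₀ t : T) (h₀ : t₀ ∈ Set.range c₀.u) (h : t ∈ Set.range c.u) :
    Nonempty (c₀.A ≅ c.A) := by
  let S : Set T := {s | ∃ d : Chart pP pT z, s ∈ Set.range d.u ∧ Nonempty (c₀.A ≅ d.A)}
  have ho : ∀ d : Chart pP pT z, IsOpen (Set.range d.u) := fun d => by
    haveI := d.et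
    exact d.u.isOpenMap.isOpen_range
  have hS : IsClopen S := by
    refine ⟨⟨?_⟩, ?_⟩
    · refine isOpen_iff_forall_mem_open.2 fun s hs => ?_
      obtain ⟨d, hd⟩ := exists_chart pP pT z s
      refine ⟨Set.range d.u, fun s' hs' ⟨d', hd', ⟨e⟩⟩ => hs ⟨d, hd, ?_⟩, ho d, hd⟩
      obtain ⟨e'⟩ := exists_iso_of_overlap pP pT z d' d s' hd' hs'
      exact ⟨e ≪≫ e'⟩
    · refine isOpen_iff_forall_mem_open.2 fun s hs => ?_
      obtain ⟨d, hd, he⟩ := hs
      exact ⟨Set.range d.u, fun s' hs' => ⟨d, hs', he⟩, ho d, hd⟩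
  obtain ⟨d, hd, ⟨e⟩⟩ : t ∈ S := (hS.eq_univ ⟨t₀, c₀, h₀, ⟨Iso.refl _⟩⟩).symm ▸ Set.mem_univ t
  obtain ⟨e'⟩ := exists_iso_of_overlap pP pT z d c t hd h
  exact ⟨e ≪≫ e'⟩

/-- The fibre of the family at a rational point of the parameter space is the cover of a chart. -/
theorem nonempty_fibre_iso [IsAlgClosed k] [IsFinite z] [Etale z] (c : Chart pP pT z)
    (y : Spec (CommRingCat.of k) ⟶ T) (j : P ⟶ pullback pP pT) (hj₁ : j ≫ pullback.fst _ _ = 𝟙 P)
    (hj₂ : j ≫ pullback.snd _ _ = pP ≫ y) (hc : y (pt k) ∈ Set.range c.u) :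
    Nonempty ((FEt.restrict j).obj (MorphismProperty.Over.mk ⊤ z ⟨‹IsFinite z›, ‹Etale z›⟩) ≅ c.A) := by
  obtain ⟨x, hx⟩ := hc
  haveI := c.et
  haveI : LocallyQuasiFinite c.u := locallyQuasiFinite_of_etale _
  obtain ⟨⟨ν, hν⟩, -⟩ := exists_gpt c.u x y hx
  have hp : pP = (pP ≫ ν) ≫ c.u ≫ pT := by
    rw [Category.assoc, reassoc_of% hν, ← reassoc_of% hj₂, ← pullback.condition, reassoc_of% hj₁]
  let s : P ⟶ pullback pP (c.u ≫ pT) := pullback.lift (𝟙 P) (pP ≫ ν) ((Category.id_comp _).trans hp)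
  have hs : s ≫ mM pP pT c.u = j := by
    apply pullback.hom_ext <;> simp [s, hν, hj₁, hj₂]
  let l : c.A.left ⟶ pullback c.A.hom (pullback.fst pP (c.u ≫ pT)) :=
    pullback.lift (𝟙 c.A.left) (c.A.hom ≫ s) (by simp [s])
  have hl : IsPullback l c.A.hom (pullback.snd _ _) s := by
    refine IsPullback.of_right ?_ (pullback.lift_snd _ _ _) (IsPullback.of_hasPullback _ _)
    rw [pullback.lift_fst, pullback.lift_fst]
    haveI : IsIso (𝟙 c.A.left) := IsIso.id _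
    haveI : IsIso (𝟙 P) := IsIso.id _
    exact IsPullback.of_horiz_isIso ⟨(Category.id_comp _).trans (Category.comp_id _).symm⟩
  have h2 := hl.paste_horiz c.sq
  rw [hs] at h2
  exact ⟨MorphismProperty.Over.isoMk ((IsPullback.of_hasPullback z j).isoIsPullback _ _ h2)
    (IsPullback.isoIsPullback_hom_snd _ _ _ _)⟩

/-- First case: the first factor is proper. -/
theorem nonempty_iso_proper_fst [IsAlgClosed k] [IsProper pP] [IsFinite z] [Etale z] [PreconnectedSpace T]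
    (y y' : Spec (CommRingCat.of k) ⟶ T) (j j' : P ⟶ pullback pP pT) (hj₁ : j ≫ pullback.fst _ _ = 𝟙 P)
    (hj₂ : j ≫ pullback.snd _ _ = pP ≫ y) (hj₁' : j' ≫ pullback.fst _ _ = 𝟙 P)
    (hj₂' : j' ≫ pullback.snd _ _ = pP ≫ y') :
    Nonempty ((FEt.restrict j).obj (MorphismProperty.Over.mk ⊤ z ⟨‹IsFinite z›, ‹Etale z›⟩) ≅
      (FEt.restrict j').obj (MorphismProperty.Over.mk ⊤ z ⟨‹IsFinite z›, ‹Etale z›⟩)) := by
  obtain ⟨c, hc⟩ := exists_chart pP pT z (y (pt k))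
  obtain ⟨c', hc'⟩ := exists_chart pP pT z (y' (pt k))
  obtain ⟨e⟩ := chart_const pP pT z c c' _ _ hc hc'
  obtain ⟨f⟩ := nonempty_fibre_iso pP pT z c y j hj₁ hj₂ hc
  obtain ⟨f'⟩ := nonempty_fibre_iso pP pT z c' y' j' hj₁' hj₂' hc'
  exact ⟨f ≪≫ e ≪≫ f'.symm⟩

/-- Two finite étale covers related by a compatible family of étale neighbourhoods are isomorphic. -/
theorem exists_iso_of_pieces {X : Scheme.{u}} {Z₁ Z₂ : FEt.Cat X} {I : Type (u + 1)} (U : I → Scheme.{u})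
    (v : ∀ i, U i ⟶ X) (hv : ∀ i, Etale (v i)) (s : ∀ i, U i ⟶ Z₁.left) (t : ∀ i, U i ⟶ Z₂.left)
    (hs : ∀ i, s i ≫ Z₁.hom = v i) (ht : ∀ i, t i ≫ Z₂.hom = v i)
    (hs' : ∀ w, ∃ i, w ∈ Set.range (s i)) (ht' : ∀ w, ∃ i, w ∈ Set.range (t i))
    (hst : ∀ (K : Type u) [Field K] [IsAlgClosed K] (i j : I) (a : Spec (CommRingCat.of K) ⟶ U i)
      (b : Spec (CommRingCat.of K) ⟶ U j), a ≫ s i = b ≫ s j ↔ a ≫ t i = b ≫ t j) :
    Nonempty (Z₁ ≅ Z₂) := by
  haveI : IsFinite Z₁.hom := Z₁.prop.1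
  haveI : Etale Z₁.hom := Z₁.prop.2
  haveI : IsFinite Z₂.hom := Z₂.prop.1
  haveI : Etale Z₂.hom := Z₂.prop.2
  let ψ : ∀ i, U i ⟶ pullback Z₁.hom Z₂.hom := fun i => pullback.lift (s i) (t i) ((hs i).trans (ht i).symm)
  have hψ : ∀ i, Etale (ψ i) := fun i => by
    have e : ψ i ≫ pullback.fst Z₁.hom Z₂.hom ≫ Z₁.hom = v i := by
      rw [pullback.lift_fst_assoc, hs]
    haveI : Etale (ψ i ≫ pullback.fst Z₁.hom Z₂.hom ≫ Z₁.hom) := e ▸ hv i
    exact Etale.of_comp (ψ i) (pullback.fst Z₁.hom Z₂.hom ≫ Z₁.hom)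
  let G : (pullback Z₁.hom Z₂.hom).Opens := ⟨⋃ i, Set.range (ψ i), isOpen_iUnion fun i => by
    haveI := hψ i
    exact (ψ i).isOpenMap.isOpen_range⟩
  have hlift : ∀ (K : Type u) [Field K] [IsAlgClosed K] (g : Spec (CommRingCat.of K) ⟶ (G : Scheme.{u})),
      ∃ (i : I) (a : Spec (CommRingCat.of K) ⟶ U i), a ≫ ψ i = g ≫ G.ι := fun K _ _ g => by
    obtain ⟨i, x, hx⟩ := Set.mem_iUnion.1 ((g (pt K)).2 : (g (pt K)).1 ∈ ⋃ i, Set.range (ψ i))
    haveI := hψ i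
    haveI : LocallyQuasiFinite (ψ i) := locallyQuasiFinite_of_etale _
    obtain ⟨⟨a, ha⟩, -⟩ := exists_gpt (ψ i) x (g ≫ G.ι) hx
    exact ⟨i, a, ha⟩
  have hmem : ∀ i u, ψ i u ∈ G := fun i u => Set.mem_iUnion.2 ⟨i, u, rfl⟩
  haveI : IsIso (G.ι ≫ pullback.fst Z₁.hom Z₂.hom) := by
    refine isIso_of_points _ (fun w => ?_) fun K _ _ g g' h => ?_
    · obtain ⟨i, u, rfl⟩ := hs' w
      exact ⟨⟨ψ i u, hmem i u⟩, (Scheme.Hom.comp_apply (ψ i) _ u).symm.trans (by rw [pullback.lift_fst]; rfl)⟩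
    · obtain ⟨i, a, ha⟩ := hlift K g
      obtain ⟨j, b, hb⟩ := hlift K g'
      rw [← Category.assoc, ← Category.assoc, ← ha, ← hb] at h
      simp only [ψ, Category.assoc, pullback.lift_fst] at h
      rw [← cancel_mono G.ι, ← ha, ← hb]
      apply pullback.hom_ext
      · simpa [ψ] using h
      · simpa [ψ] using (hst K i j a b).1 h
  haveI : IsIso (G.ι ≫ pullback.snd Z₁.hom Z₂.hom) := by
    refine isIso_of_points _ (fun w => ?_) fun K _ _ g g' h => ?_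
    · obtain ⟨i, u, rfl⟩ := ht' w
      exact ⟨⟨ψ i u, hmem i u⟩, (Scheme.Hom.comp_apply (ψ i) _ u).symm.trans (by rw [pullback.lift_snd]; rfl)⟩
    · obtain ⟨i, a, ha⟩ := hlift K g
      obtain ⟨j, b, hb⟩ := hlift K g'
      rw [← Category.assoc, ← Category.assoc, ← ha, ← hb] at h
      simp only [ψ, Category.assoc, pullback.lift_snd] at h
      rw [← cancel_mono G.ι, ← ha, ← hb]
      apply pullback.hom_ext
      · simpa [ψ] using (hst K i j a b).2 h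
      · simpa [ψ] using h
  refine ⟨MorphismProperty.Over.isoMk ((asIso (G.ι ≫ pullback.fst Z₁.hom Z₂.hom)).symm ≪≫
    asIso (G.ι ≫ pullback.snd Z₁.hom Z₂.hom)) ?_⟩
  simp only [Iso.trans_hom, Iso.symm_hom, asIso_hom, asIso_inv, Category.assoc, IsIso.inv_comp_eq]
  rw [pullback.condition]

variable (y : Spec (CommRingCat.of k) ⟶ P) (j : T ⟶ pullback pP pT) (hj₁ : j ≫ pullback.fst _ _ = pT ≫ y)
  (hj₂ : j ≫ pullback.snd _ _ = 𝟙 T)

include hj₁ hj₂ in
theorem point_comp_base (c : Chart pP pT z) : ((c.u ≫ pT) ≫ y) ≫ pP = 𝟙 c.U ≫ c.u ≫ pT := by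
  rw [Category.assoc, Category.assoc, Category.id_comp, ← reassoc_of% hj₁, pullback.condition, reassoc_of% hj₂]

/-- The section over a chart at a rational point of the cover of the first factor. -/
def fibSec (c : Chart pP pT z) (a : FEt.fiberObj y c.A) : c.U ⟶ pullback c.A.hom (pullback.fst pP (c.u ≫ pT)) :=
  pullback.lift ((c.u ≫ pT) ≫ a.1)
    (pullback.lift ((c.u ≫ pT) ≫ y) (𝟙 c.U) (point_comp_base pP pT z y j hj₁ hj₂ c))
    (by rw [pullback.lift_fst, Category.assoc, a.2])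

theorem fibSec_fst (c : Chart pP pT z) (a : FEt.fiberObj y c.A) :
    fibSec pP pT z y j hj₁ hj₂ c a ≫ pullback.fst _ _ = (c.u ≫ pT) ≫ a.1 :=
  pullback.lift_fst _ _ _

theorem fibSec_snd₁ (c : Chart pP pT z) (a : FEt.fiberObj y c.A) :
    fibSec pP pT z y j hj₁ hj₂ c a ≫ pullback.snd _ _ ≫ pullback.fst _ _ = (c.u ≫ pT) ≫ y := by
  rw [fibSec, pullback.lift_snd_assoc, pullback.lift_fst]

theorem fibSec_snd₂ (c : Chart pP pT z) (a : FEt.fiberObj y c.A) :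
    fibSec pP pT z y j hj₁ hj₂ c a ≫ pullback.snd _ _ ≫ pullback.snd _ _ = 𝟙 _ := by
  rw [fibSec, pullback.lift_snd_assoc, pullback.lift_snd]

theorem fibSec_z (c : Chart pP pT z) (a : FEt.fiberObj y c.A) :
    (fibSec pP pT z y j hj₁ hj₂ c a ≫ c.q) ≫ z = c.u ≫ j := by
  rw [Category.assoc, c.sq.w]
  apply pullback.hom_ext
  · simp only [Category.assoc, mM_fst, hj₁]
    rw [fibSec_snd₁, Category.assoc]
  · simp only [Category.assoc, mM_snd, hj₂, Category.comp_id]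
    rw [reassoc_of% (fibSec_snd₂ pP pT z y j hj₁ hj₂ c a)]

/-- The section over a chart into the fibre of the family. -/
def fibLift (c : Chart pP pT z) (a : FEt.fiberObj y c.A) : c.U ⟶ pullback z j :=
  pullback.lift (fibSec pP pT z y j hj₁ hj₂ c a ≫ c.q) c.u (fibSec_z ..)

theorem fibLift_fst (c : Chart pP pT z) (a : FEt.fiberObj y c.A) :
    fibLift pP pT z y j hj₁ hj₂ c a ≫ pullback.fst _ _ = fibSec pP pT z y j hj₁ hj₂ c a ≫ c.q :=
  pullback.lift_fst _ _ _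

theorem fibLift_snd (c : Chart pP pT z) (a : FEt.fiberObj y c.A) :
    fibLift pP pT z y j hj₁ hj₂ c a ≫ pullback.snd _ _ = c.u :=
  pullback.lift_snd _ _ _

theorem fibLift_surj [IsAlgClosed k] [IsProper pP] [IsFinite z] [Etale z] (w : (pullback z j : Scheme.{u})) :
    ∃ (c : Chart pP pT z) (a : FEt.fiberObj y c.A), w ∈ Set.range (fibLift pP pT z y j hj₁ hj₂ c a) := by
  obtain ⟨c, x, hx⟩ := exists_chart pP pT z ((gpt w ≫ pullback.snd z j) (pt _))
  haveI := c.et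
  haveI : LocallyQuasiFinite c.u := locallyQuasiFinite_of_etale _
  obtain ⟨⟨ν, hν⟩, -⟩ := exists_gpt c.u x (gpt w ≫ pullback.snd z j) hx
  have hsy := point_comp_base pP pT z y j hj₁ hj₂ c
  have hw : (gpt w ≫ pullback.fst z j) ≫ z =
      (ν ≫ pullback.lift ((c.u ≫ pT) ≫ y) (𝟙 c.U) hsy) ≫ mM pP pT c.u := by
    rw [Category.assoc, pullback.condition, ← reassoc_of% hν]
    apply pullback.hom_ext
    · simp [hj₁]
    · simp [hj₂]
      exact congrArg (ν ≫ ·) (Category.id_comp c.u).symm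
  obtain ⟨m, hm₁, hm₂⟩ := c.sq.exists_lift _ _ hw
  obtain ⟨a, ha⟩ := exists_rat_point c.A y (ν ≫ c.u ≫ pT) (m ≫ pullback.fst _ _) (by
    rw [Category.assoc, pullback.condition, reassoc_of% hm₂]
    simp only [Category.assoc, pullback.lift_fst])
  have hk : ν ≫ fibSec pP pT z y j hj₁ hj₂ c a = m := by
    apply pullback.hom_ext
    · rw [Category.assoc, fibSec_fst, ← ha]
      simp only [Category.assoc]
    · rw [hm₂, Category.assoc, fibSec, pullback.lift_snd]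
  refine ⟨c, a, ν (pt _), ?_⟩
  rw [← Scheme.Hom.comp_apply, show ν ≫ fibLift pP pT z y j hj₁ hj₂ c a = gpt w from pullback.hom_ext
    (by rw [Category.assoc, fibLift_fst, reassoc_of% hk, hm₁])
    (by rw [Category.assoc, fibLift_snd, hν])]
  exact img_gpt w

theorem fibLift_eq_iff [IsAlgClosed k] [IsProper pP] {c₁ c₂ : Chart pP pT z} {K : Type u} [Field K]
    (ν₁ : Spec (CommRingCat.of K) ⟶ c₁.U) (ν₂ : Spec (CommRingCat.of K) ⟶ c₂.U) (h : ν₁ ≫ c₁.u = ν₂ ≫ c₂.u)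
    (e : c₁.A ≅ c₂.A)
    (he : ∀ (W : Scheme.{u}) (m₁ : W ⟶ pullback c₁.A.hom (pullback.fst pP (c₁.u ≫ pT)))
      (m₂ : W ⟶ pullback c₂.A.hom (pullback.fst pP (c₂.u ≫ pT))) (w : W ⟶ Spec (CommRingCat.of K)),
      m₁ ≫ pullback.snd _ _ ≫ pullback.snd _ _ = w ≫ ν₁ →
      m₂ ≫ pullback.snd _ _ ≫ pullback.snd _ _ = w ≫ ν₂ →
      m₁ ≫ pullback.fst _ _ ≫ e.hom.left = m₂ ≫ pullback.fst _ _ → m₁ ≫ c₁.q = m₂ ≫ c₂.q)
    (a₁ : FEt.fiberObj y c₁.A) (a₂ : FEt.fiberObj y c₂.A) :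
    ν₁ ≫ fibLift pP pT z y j hj₁ hj₂ c₁ a₁ = ν₂ ≫ fibLift pP pT z y j hj₁ hj₂ c₂ a₂ ↔
      (FEt.fiber y).map e.hom a₁ = a₂ := by
  let b : FEt.fiberObj y c₂.A := (FEt.fiber y).map e.hom a₁
  have hb : b.1 = a₁.1 ≫ e.hom.left := rfl
  have hq : ν₁ ≫ fibSec pP pT z y j hj₁ hj₂ c₁ a₁ ≫ c₁.q = ν₂ ≫ fibSec pP pT z y j hj₁ hj₂ c₂ b ≫ c₂.q := by
    rw [← Category.assoc, ← Category.assoc ν₂]
    refine he _ _ _ (𝟙 _) ?_ ?_ ?_
    · rw [Category.assoc, fibSec_snd₂, Category.comp_id, Category.id_comp]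
    · rw [Category.assoc, fibSec_snd₂, Category.comp_id, Category.id_comp]
    · rw [Category.assoc, Category.assoc, reassoc_of% (fibSec_fst pP pT z y j hj₁ hj₂ c₁ a₁), fibSec_fst, hb]
      simp only [Category.assoc, reassoc_of% h]
  have hL : ν₁ ≫ fibLift pP pT z y j hj₁ hj₂ c₁ a₁ = ν₂ ≫ fibLift pP pT z y j hj₁ hj₂ c₂ b :=
    pullback.hom_ext (by simpa only [fibLift_fst, Category.assoc] using hq)
      (by simpa only [fibLift_snd, Category.assoc] using h)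
  rw [hL]
  refine ⟨fun hh => ?_, fun hh => by rw [show b = a₂ from hh]⟩
  haveI := epi_spec_field (ν₂ ≫ c₂.u ≫ pT)
  have h1 := congrArg (· ≫ pullback.fst _ _) hh
  simp only [fibLift_fst, Category.assoc] at h1
  have h2 : ν₂ ≫ fibSec pP pT z y j hj₁ hj₂ c₂ b = ν₂ ≫ fibSec pP pT z y j hj₁ hj₂ c₂ a₂ := c₂.sq.hom_ext
    (by simpa only [Category.assoc] using h1)
    (by simp only [fibSec, Category.assoc, pullback.lift_snd])
  have h3 := congrArg (· ≫ pullback.fst _ _) h2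
  simp only [Category.assoc, fibSec_fst] at h3
  show b = a₂
  exact Subtype.ext ((cancel_epi (ν₂ ≫ c₂.u ≫ pT)).1 (by simpa only [Category.assoc] using h3))

/-- Second case: the parameter space is proper. -/
theorem nonempty_iso_proper_snd [IsAlgClosed k] [IsProper pP] [IsFinite z] [Etale z] [ConnectedSpace P]
    (y' : Spec (CommRingCat.of k) ⟶ P) (j' : T ⟶ pullback pP pT) (hj₁' : j' ≫ pullback.fst _ _ = pT ≫ y')
    (hj₂' : j' ≫ pullback.snd _ _ = 𝟙 T) (hj₁ : j ≫ pullback.fst _ _ = pT ≫ y)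
    (hj₂ : j ≫ pullback.snd _ _ = 𝟙 T) :
    Nonempty ((FEt.restrict j).obj (MorphismProperty.Over.mk ⊤ z ⟨‹IsFinite z›, ‹Etale z›⟩) ≅
      (FEt.restrict j').obj (MorphismProperty.Over.mk ⊤ z ⟨‹IsFinite z›, ‹Etale z›⟩)) := by
  obtain ⟨θ⟩ := Groth.Agent.S0296.result y y'
  refine exists_iso_of_pieces (I := Σ c : Chart pP pT z, ULift.{u + 1} (FEt.fiberObj y c.A)) (fun i => i.1.U)
    (fun i => i.1.u) (fun i => i.1.et) (fun i => fibLift pP pT z y j hj₁ hj₂ i.1 i.2.down)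
    (fun i => fibLift pP pT z y' j' hj₁' hj₂' i.1 (θ.hom.app i.1.A i.2.down)) (fun i => fibLift_snd ..)
    (fun i => fibLift_snd ..) (fun w => ?_) (fun w => ?_) fun K _ _ i i' a b => ?_
  · obtain ⟨c, a, ha⟩ := fibLift_surj pP pT z y j hj₁ hj₂ w
    exact ⟨⟨c, ⟨a⟩⟩, ha⟩
  · obtain ⟨c, a, ha⟩ := fibLift_surj pP pT z y' j' hj₁' hj₂' w
    refine ⟨⟨c, ⟨θ.inv.app c.A a⟩⟩, ?_⟩
    show w ∈ Set.range (fibLift pP pT z y' j' hj₁' hj₂' c (θ.hom.app c.A (θ.inv.app c.A a)))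
    rwa [show θ.hom.app c.A (θ.inv.app c.A a) = a from Iso.inv_hom_id_app_apply θ c.A a]
  · have key : a ≫ i.1.u = b ≫ i'.1.u →
        (a ≫ fibLift pP pT z y j hj₁ hj₂ i.1 i.2.down = b ≫ fibLift pP pT z y j hj₁ hj₂ i'.1 i'.2.down ↔
        a ≫ fibLift pP pT z y' j' hj₁' hj₂' i.1 (θ.hom.app i.1.A i.2.down) =
          b ≫ fibLift pP pT z y' j' hj₁' hj₂' i'.1 (θ.hom.app i'.1.A i'.2.down)) := fun h => by
      obtain ⟨e, he⟩ := exists_iso_of_geom pP pT z i.1 i'.1 _ a b h rfl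
      rw [fibLift_eq_iff pP pT z y j hj₁ hj₂ a b h e he, fibLift_eq_iff pP pT z y' j' hj₁' hj₂' a b h e he]
      rw [← NatTrans.naturality_apply θ.hom e.hom i.2.down]
      exact ⟨fun hh => congrArg _ hh, fun hh => (θ.app i'.1.A).toEquiv.injective hh⟩
    refine ⟨fun h => (key ?_).1 h, fun h => (key ?_).2 h⟩
    · rw [← fibLift_snd pP pT z y j hj₁ hj₂ i.1 i.2.down, ← fibLift_snd pP pT z y j hj₁ hj₂ i'.1 i'.2.down]
      exact (Category.assoc _ _ _).symm.trans ((congrArg (· ≫ pullback.snd z j) h).trans (Category.assoc _ _ _))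
    · rw [← fibLift_snd pP pT z y' j' hj₁' hj₂' i.1 (θ.hom.app i.1.A i.2.down),
        ← fibLift_snd pP pT z y' j' hj₁' hj₂' i'.1 (θ.hom.app i'.1.A i'.2.down)]
      exact (Category.assoc _ _ _).symm.trans ((congrArg (· ≫ pullback.snd z j') h).trans (Category.assoc _ _ _))

end FEtKunneth

end
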