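import Groth.Agent.FEtKunnethLib.Const
import Groth.Agent.FEtColimLib.Galois
import Mathlib.AlgebraicGeometry.AlgClosed.Basic

/-! # Connected covers of a product with a proper factor are dominated by products of covers -/

set_option autoImplicit false
set_option linter.style.haveILetI false
set_option backward.isDefEq.respectTransparency false
set_option backward.isDefEq.respectTransparency.types false
set_option maxHeartbeats 1000000

universe u

open CategoryTheory CategoryTheory.Limits AlgebraicGeometry WeightLib AlgSpRegLib FEtProper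

noncomputable section

namespace FEtKunneth

open FEtSplit

/-- A morphism defined by compatible pieces on an étale covering. -/
theorem exists_morphism_of_pieces {S Z₁ Z₂ : Scheme.{u}} (f₁ : Z₁ ⟶ S) (f₂ : Z₂ ⟶ S) [Etale f₂] {I : Type (u + 1)}
    (U : I → Scheme.{u}) (v : ∀ i, U i ⟶ Z₁) (hv : ∀ i, Etale (v i)) (hv' : ∀ w, ∃ i, w ∈ Set.range (v i))
    (t : ∀ i, U i ⟶ Z₂) (h : ∀ i, t i ≫ f₂ = v i ≫ f₁)
    (hvt : ∀ (K : Type u) [Field K] [IsAlgClosed K] (i j : I) (a : Spec (CommRingCat.of K) ⟶ U i)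
      (b : Spec (CommRingCat.of K) ⟶ U j), a ≫ v i = b ≫ v j → a ≫ t i = b ≫ t j) :
    ∃ φ : Z₁ ⟶ Z₂, φ ≫ f₂ = f₁ ∧ ∀ i, v i ≫ φ = t i := by
  let ψ : ∀ i, U i ⟶ pullback f₁ f₂ := fun i => pullback.lift (v i) (t i) (h i).symm
  haveI : Etale (pullback.fst f₁ f₂) := MorphismProperty.pullback_fst _ _ ‹Etale f₂›
  have hψ : ∀ i, Etale (ψ i) := fun i => by
    haveI : Etale (ψ i ≫ pullback.fst f₁ f₂) := by rw [pullback.lift_fst]; exact hv i
    exact Etale.of_comp (ψ i) (pullback.fst f₁ f₂)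
  let G : (pullback f₁ f₂).Opens := ⟨⋃ i, Set.range (ψ i), isOpen_iUnion fun i => by
    haveI := hψ i
    exact (ψ i).isOpenMap.isOpen_range⟩
  have hmem : ∀ i u, ψ i u ∈ G := fun i u => Set.mem_iUnion.2 ⟨i, u, rfl⟩
  have hlift : ∀ (K : Type u) [Field K] [IsAlgClosed K] (g : Spec (CommRingCat.of K) ⟶ (G : Scheme.{u})),
      ∃ (i : I) (a : Spec (CommRingCat.of K) ⟶ U i), a ≫ ψ i = g ≫ G.ι := fun K _ _ g => by
    obtain ⟨i, x, hx⟩ := Set.mem_iUnion.1 ((g (pt K)).2 : (g (pt K)).1 ∈ ⋃ i, Set.range (ψ i))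
    haveI := hψ i
    haveI : LocallyQuasiFinite (ψ i) := locallyQuasiFinite_of_etale _
    obtain ⟨⟨a, ha⟩, -⟩ := exists_gpt (ψ i) x (g ≫ G.ι) hx
    exact ⟨i, a, ha⟩
  haveI : IsIso (G.ι ≫ pullback.fst f₁ f₂) := by
    refine isIso_of_points _ (fun w => ?_) fun K _ _ g g' e => ?_
    · obtain ⟨i, u, rfl⟩ := hv' w
      exact ⟨⟨ψ i u, hmem i u⟩, (Scheme.Hom.comp_apply (ψ i) _ u).symm.trans (by rw [pullback.lift_fst])⟩
    · obtain ⟨i, a, ha⟩ := hlift K g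
      obtain ⟨j, b, hb⟩ := hlift K g'
      rw [← Category.assoc, ← Category.assoc, ← ha, ← hb] at e
      simp only [ψ, Category.assoc, pullback.lift_fst] at e
      rw [← cancel_mono G.ι, ← ha, ← hb]
      apply pullback.hom_ext
      · simpa [ψ] using e
      · simpa [ψ] using hvt K i j a b e
  refine ⟨inv (G.ι ≫ pullback.fst f₁ f₂) ≫ G.ι ≫ pullback.snd f₁ f₂, ?_, fun i => ?_⟩
  · simp only [Category.assoc, IsIso.inv_comp_eq, pullback.condition]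
  · have hr : Set.range (ψ i) ⊆ Set.range G.ι := by
      rintro _ ⟨u, rfl⟩
      exact ⟨⟨ψ i u, hmem i u⟩, rfl⟩
    have hl : IsOpenImmersion.lift G.ι (ψ i) hr ≫ G.ι = ψ i := IsOpenImmersion.lift_fac _ _ _
    have e : v i = IsOpenImmersion.lift G.ι (ψ i) hr ≫ G.ι ≫ pullback.fst f₁ f₂ := by
      rw [reassoc_of% hl, pullback.lift_fst]
    rw [e, Category.assoc, IsIso.hom_inv_id_assoc, reassoc_of% hl, pullback.lift_snd]

/-- Finite powers of a finite étale cover. -/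
theorem exists_power {Y : Scheme.{u}} (V : FEt.Cat Y) (I : Type u) [Finite I] :
    ∃ (Q : FEt.Cat Y) (π : I → (Q.left ⟶ V.left)), (∀ i, π i ≫ V.hom = Q.hom) ∧
      (∀ {T : Scheme.{u}} (t : T ⟶ Y) (g : I → (T ⟶ V.left)), (∀ i, g i ≫ V.hom = t) →
        ∃ h : T ⟶ Q.left, h ≫ Q.hom = t ∧ ∀ i, h ≫ π i = g i) ∧
      (∀ {T : Scheme.{u}} (h h' : T ⟶ Q.left), h ≫ Q.hom = h' ≫ Q.hom → (∀ i, h ≫ π i = h' ≫ π i) → h = h') := by
  haveI := FEtColim.hasFiniteLimits Y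
  let f : I → FEt.Cat Y := fun _ => V
  haveI : HasProduct f := inferInstance
  let F := MorphismProperty.Over.forget FEt.prop.{u} ⊤ Y
  have hL : IsLimit (Fan.mk (F.obj (∏ᶜ f)) fun i => F.map (Pi.π f i)) :=
    isLimitFanMkObjOfIsLimit F f _ (productIsProduct f)
  refine ⟨∏ᶜ f, fun i => (Pi.π f i).left, fun i => MorphismProperty.Over.w (Pi.π f i), fun t g hg => ?_,
    fun h h' e eπ => ?_⟩
  · refine ⟨(Fan.IsLimit.lift hL (fun i => (Over.homMk (g i) (hg i) : Over.mk t ⟶ F.obj (f i)))).left,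
      Over.w (Fan.IsLimit.lift hL (fun i => (Over.homMk (g i) (hg i) : Over.mk t ⟶ F.obj (f i)))), fun i => ?_⟩
    exact congrArg CommaMorphism.left (Fan.IsLimit.fac hL _ i)
  · have := Fan.IsLimit.hom_ext hL (Over.homMk h rfl : Over.mk (h ≫ (∏ᶜ f).hom) ⟶ F.obj (∏ᶜ f))
      (Over.homMk h' e.symm) fun i => Over.OverMorphism.ext (eπ i)
    exact congrArg CommaMorphism.left this

/-- The fibre functor of a connected scheme is faithful. -/
theorem fiber_ext {X : Scheme.{u}} [ConnectedSpace X] {Ω : Type u} [Field Ω] [IsAlgClosed Ω]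
    (ξ : Spec (CommRingCat.of Ω) ⟶ X) {A B : FEt.Cat X} {f g : A ⟶ B}
    (h : ∀ a, (FEt.fiber ξ).map f a = (FEt.fiber ξ).map g a) : f = g := by
  letI := FEtColim.preGaloisCategory X
  haveI := (FEtColim.fiberFunctor ξ).some
  haveI : GaloisCategory (FEt.Cat X) := { hasFiberFunctor := ⟨_, FEtColim.fiberFunctor ξ⟩ }
  haveI : (FEtColim.finFiber ξ).Faithful := inferInstance
  haveI : (FEt.fiber ξ).Faithful := Functor.Faithful.of_iso (FEtColim.finFiberCompIncl ξ)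
  exact (FEt.fiber ξ).map_injective (ConcreteCategory.hom_ext _ _ h)

variable {k : Type u} [Field k] {P T : Scheme.{u}} (pP : P ⟶ Spec (CommRingCat.of k))
  (pT : T ⟶ Spec (CommRingCat.of k))

theorem exists_fibLift_eq {Z : Scheme.{u}} (z : Z ⟶ pullback pP pT) [IsAlgClosed k]
    (y : Spec (CommRingCat.of k) ⟶ P) (j : T ⟶ pullback pP pT) (hj₁ : j ≫ pullback.fst _ _ = pT ≫ y)
    (hj₂ : j ≫ pullback.snd _ _ = 𝟙 T) (c : Chart pP pT z) {K : Type u} [Field K]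
    (ν : Spec (CommRingCat.of K) ⟶ c.U) (g : Spec (CommRingCat.of K) ⟶ pullback z j)
    (hg : g ≫ pullback.snd z j = ν ≫ c.u) : ∃ a, ν ≫ fibLift pP pT z y j hj₁ hj₂ c a = g := by
  have hsy := point_comp_base pP pT z y j hj₁ hj₂ c
  have hw : (g ≫ pullback.fst z j) ≫ z =
      (ν ≫ pullback.lift ((c.u ≫ pT) ≫ y) (𝟙 c.U) hsy) ≫ mM pP pT c.u := by
    rw [Category.assoc, pullback.condition, reassoc_of% hg]
    apply pullback.hom_ext
    · simp [hj₁]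
    · simp [hj₂]
      exact congrArg (ν ≫ ·) (Category.id_comp c.u).symm
  obtain ⟨m, hm₁, hm₂⟩ := c.sq.exists_lift _ _ hw
  obtain ⟨a, ha⟩ := exists_rat_point c.A y (ν ≫ c.u ≫ pT) (m ≫ pullback.fst _ _) (by
    rw [Category.assoc, pullback.condition, reassoc_of% hm₂]
    simp only [Category.assoc, pullback.lift_fst])
  have hk : ν ≫ fibSec pP pT z y j hj₁ hj₂ c a = m := by
    apply pullback.hom_ext
    · rw [Category.assoc, fibSec_fst, ← ha]
      simp only [Category.assoc]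
    · rw [hm₂, Category.assoc, fibSec, pullback.lift_snd]
  refine ⟨a, pullback.hom_ext ?_ ?_⟩
  · rw [Category.assoc, fibLift_fst, reassoc_of% hk, hm₁]
  · rw [Category.assoc, fibLift_snd, hg]

variable [IsAlgClosed k] [IsProper pP] (W : FEt.Cat (pullback pP pT))
  (x₀ : Spec (CommRingCat.of k) ⟶ P) (j : T ⟶ pullback pP pT) (hj₁ : j ≫ pullback.fst _ _ = pT ≫ x₀)
  (hj₂ : j ≫ pullback.snd _ _ = 𝟙 T) (A₀ : FEt.Cat P) (Q : FEt.Cat T)
  (π : FEt.fiberObj x₀ A₀ → (Q.left ⟶ pullback W.hom j))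

/-- A chart section of a power of the fibre over a point comes from an isomorphism of covers. -/
def GoodTuple (c : Chart pP pT W.hom) (τ : FEt.fiberObj x₀ A₀ → FEt.fiberObj x₀ c.A) : Prop :=
  ∃ e : A₀ ≅ c.A, ∀ i, (FEt.fiber x₀).map e.hom i = τ i

theorem exists_tuple_iso {c c' : Chart pP pT W.hom} (τ : FEt.fiberObj x₀ A₀ → FEt.fiberObj x₀ c.A)
    (τ' : FEt.fiberObj x₀ A₀ → FEt.fiberObj x₀ c'.A)
    {s : c.U ⟶ Q.left} {s' : c'.U ⟶ Q.left} (hs : ∀ i, s ≫ π i = fibLift pP pT W.hom x₀ j hj₁ hj₂ c (τ i))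
    (hs' : ∀ i, s' ≫ π i = fibLift pP pT W.hom x₀ j hj₁ hj₂ c' (τ' i))
    {K : Type u} [Field K] [IsAlgClosed K] (ν : Spec (CommRingCat.of K) ⟶ c.U)
    (ν' : Spec (CommRingCat.of K) ⟶ c'.U) (h : ν ≫ s = ν' ≫ s') (hu : ν ≫ c.u = ν' ≫ c'.u) :
    ∃ E : c.A ≅ c'.A, (∀ i, (FEt.fiber x₀).map E.hom (τ i) = τ' i) ∧
      ∀ (S : Scheme.{u}) (m₁ : S ⟶ pullback c.A.hom (pullback.fst pP (c.u ≫ pT)))
      (m₂ : S ⟶ pullback c'.A.hom (pullback.fst pP (c'.u ≫ pT))) (w : S ⟶ Spec (CommRingCat.of K)),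
      m₁ ≫ pullback.snd _ _ ≫ pullback.snd _ _ = w ≫ ν →
      m₂ ≫ pullback.snd _ _ ≫ pullback.snd _ _ = w ≫ ν' →
      m₁ ≫ pullback.fst _ _ ≫ E.hom.left = m₂ ≫ pullback.fst _ _ → m₁ ≫ c.q = m₂ ≫ c'.q := by
  obtain ⟨E, hE⟩ := exists_iso_of_geom pP pT W.hom c c' _ ν ν' hu rfl
  refine ⟨E, fun i => ?_, hE⟩
  refine (fibLift_eq_iff pP pT W.hom x₀ j hj₁ hj₂ ν ν' hu E hE (τ i) (τ' i)).1 ?_
  rw [← hs, ← hs', reassoc_of% h]

include hj₁ hj₂ in
/-- A clopen part of a power of the fibre, with chart sections, parametrising the isomorphisms. -/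
theorem exists_param [ConnectedSpace P] :
    ∃ (Y' : FEt.Cat T) (π' : FEt.fiberObj x₀ A₀ → (Y'.left ⟶ pullback W.hom j))
      (l : ∀ c : Chart pP pT W.hom, (A₀ ≅ c.A) → (c.U ⟶ Y'.left)),
      (∀ c e, l c e ≫ Y'.hom = c.u) ∧ (∀ i, π' i ≫ pullback.snd W.hom j = Y'.hom) ∧
      (∀ c e i, l c e ≫ π' i = fibLift pP pT W.hom x₀ j hj₁ hj₂ c ((FEt.fiber x₀).map e.hom i)) ∧
      (∀ y : Y'.left, ∃ c e, y ∈ Set.range (l c e)) := by
  classical
  haveI : IsFinite W.hom := W.prop.1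
  haveI : Etale W.hom := W.prop.2
  haveI := FEtColim.finite_fiberObj x₀ A₀
  obtain ⟨Q, π, hπ₂, hlift, hext⟩ := exists_power ((FEt.restrict j).obj W) (FEt.fiberObj x₀ A₀)
  haveI : IsFinite Q.hom := Q.prop.1
  haveI : Etale Q.hom := Q.prop.2
  have hT : ∀ (c : Chart pP pT W.hom) (τ : FEt.fiberObj x₀ A₀ → FEt.fiberObj x₀ c.A), ∃ s : c.U ⟶ Q.left,
      s ≫ Q.hom = c.u ∧ ∀ i, s ≫ π i = fibLift pP pT W.hom x₀ j hj₁ hj₂ c (τ i) := fun c τ =>
    hlift c.u (fun i => fibLift pP pT W.hom x₀ j hj₁ hj₂ c (τ i)) fun i => fibLift_snd ..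
  choose ψ hψ₁ hψ₂ using hT
  have hψe : ∀ c τ, Etale (ψ c τ) := fun c τ => by
    haveI : Etale (ψ c τ ≫ Q.hom) := by rw [hψ₁]; exact c.et
    exact Etale.of_comp (ψ c τ) Q.hom
  have hdis : ∀ c τ c' τ' x x', ψ c τ x = ψ c' τ' x' → GoodTuple pP pT W x₀ A₀ c τ →
      GoodTuple pP pT W x₀ A₀ c' τ' := by
    rintro c τ c' τ' x x' he ⟨e, hτ⟩
    haveI := hψe c τ
    haveI := hψe c' τ'
    haveI : LocallyQuasiFinite (ψ c τ) := locallyQuasiFinite_of_etale _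
    haveI : LocallyQuasiFinite (ψ c' τ') := locallyQuasiFinite_of_etale _
    obtain ⟨⟨ν, hν⟩, -⟩ := exists_gpt (ψ c τ) x (gpt (ψ c τ x)) (img_gpt _).symm
    obtain ⟨⟨ν', hν'⟩, -⟩ := exists_gpt (ψ c' τ') x' (gpt (ψ c τ x)) (he.symm.trans (img_gpt _).symm)
    have h := hν.trans hν'.symm
    obtain ⟨E, hE, -⟩ := exists_tuple_iso pP pT W x₀ j hj₁ hj₂ A₀ Q π τ τ' (hψ₂ c τ) (hψ₂ c' τ') ν ν' h
      (by rw [← hψ₁ c τ, ← hψ₁ c' τ', reassoc_of% h])
    refine ⟨e ≪≫ E, fun i => ?_⟩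
    rw [← hE i, ← hτ i]
    exact ConcreteCategory.congr_hom ((FEt.fiber x₀).map_comp e.hom E.hom) i
  have hcov : ∀ w, ∃ c τ, w ∈ Set.range (ψ c τ) := fun w => by
    obtain ⟨c, x, hx⟩ := exists_chart pP pT W.hom ((gpt w ≫ Q.hom) (pt _))
    haveI := c.et
    haveI : LocallyQuasiFinite c.u := locallyQuasiFinite_of_etale _
    obtain ⟨⟨ν, hν⟩, -⟩ := exists_gpt c.u x (gpt w ≫ Q.hom) hx
    have := fun i => exists_fibLift_eq pP pT W.hom x₀ j hj₁ hj₂ c ν (gpt w ≫ π i)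
      ((Category.assoc _ _ _).trans ((congrArg (gpt w ≫ ·) (hπ₂ i)).trans hν.symm))
    choose τ hτ using this
    refine ⟨c, τ, ν (pt _), ?_⟩
    rw [← Scheme.Hom.comp_apply, show ν ≫ ψ c τ = gpt w from hext _ _
      (by rw [Category.assoc, hψ₁, hν]) fun i => by rw [Category.assoc, hψ₂, hτ]]
    exact img_gpt w
  let O : Q.left.Opens := ⟨⋃ c, ⋃ τ, ⋃ (_ : GoodTuple pP pT W x₀ A₀ c τ), Set.range (ψ c τ),
    isOpen_iUnion fun c => isOpen_iUnion fun τ => isOpen_iUnion fun _ => by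
      haveI := hψe c τ
      exact (ψ c τ).isOpenMap.isOpen_range⟩
  have hclosed : IsClosed (O : Set Q.left) := ⟨isOpen_iff_forall_mem_open.2 fun w hw => by
    obtain ⟨c, τ, hwτ⟩ := hcov w
    haveI := hψe c τ
    refine ⟨Set.range (ψ c τ), ?_, (ψ c τ).isOpenMap.isOpen_range, hwτ⟩
    rintro _ ⟨x, rfl⟩ hx
    obtain ⟨c', h1⟩ := Set.mem_iUnion.1 hx
    obtain ⟨τ', h2⟩ := Set.mem_iUnion.1 h1
    obtain ⟨hg, x', hx'⟩ := Set.mem_iUnion.1 h2
    obtain ⟨x₁, rfl⟩ := hwτ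
    refine hw (Set.mem_iUnion.2 ⟨c, Set.mem_iUnion.2 ⟨τ, Set.mem_iUnion.2 ⟨hdis c' τ' c τ x' x hx' hg, x₁, rfl⟩⟩⟩)⟩
  haveI : IsClosedImmersion O.ι := IsClosedImmersion.of_isPreimmersion O.ι (by rwa [Scheme.Opens.range_ι])
  haveI : IsFinite (O.ι ≫ Q.hom) := inferInstance
  haveI : Etale (O.ι ≫ Q.hom) := inferInstance
  have hgood : ∀ (c : Chart pP pT W.hom) (e : A₀ ≅ c.A),
      Set.range (ψ c fun i => (FEt.fiber x₀).map e.hom i) ⊆ Set.range O.ι := fun c e => by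
    rw [Scheme.Opens.range_ι]
    exact fun w hw => Set.mem_iUnion.2 ⟨c, Set.mem_iUnion.2 ⟨_, Set.mem_iUnion.2 ⟨⟨e, fun i => rfl⟩, hw⟩⟩⟩
  refine ⟨MorphismProperty.Over.mk ⊤ (O.ι ≫ Q.hom) ⟨inferInstance, inferInstance⟩, fun i => O.ι ≫ π i,
    fun c e => IsOpenImmersion.lift O.ι _ (hgood c e), fun c e => ?_, fun i => ?_, fun c e i => ?_, fun y => ?_⟩
  · exact (IsOpenImmersion.lift_fac_assoc O.ι _ _ Q.hom).trans (hψ₁ c _)
  · exact (Category.assoc _ _ _).trans (congrArg (O.ι ≫ ·) (hπ₂ i))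
  · exact (IsOpenImmersion.lift_fac_assoc O.ι _ _ (π i)).trans (hψ₂ c _ i)
  · obtain ⟨c, h1⟩ := Set.mem_iUnion.1 (y.2 : y.1 ∈ (O : Set Q.left))
    obtain ⟨τ, h2⟩ := Set.mem_iUnion.1 h1
    obtain ⟨⟨e, hτ⟩, x, hx⟩ := Set.mem_iUnion.1 h2
    obtain rfl : τ = fun i => (FEt.fiber x₀).map e.hom i := funext fun i => (hτ i).symm
    refine ⟨c, e, x, O.ι.isOpenEmbedding.injective ?_⟩
    exact (Scheme.Hom.comp_apply _ O.ι x).symm.trans
      ((congrArg (fun f : c.U ⟶ Q.left => f x) (IsOpenImmersion.lift_fac O.ι _ (hgood c e))).trans hx)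

include hj₁ hj₂ in
/-- Every cover of the product is dominated by a product of covers. -/
theorem exists_dominated [ConnectedSpace P] [PreconnectedSpace T] [Nonempty T] :
    ∃ (X' : FEt.Cat P) (Y' : FEt.Cat T) (φ : pullback (X'.hom ≫ pP) (Y'.hom ≫ pT) ⟶ W.left),
      φ ≫ W.hom = pullback.map (X'.hom ≫ pP) (Y'.hom ≫ pT) pP pT X'.hom Y'.hom (𝟙 _)
        (Category.comp_id _) (Category.comp_id _) ∧ Surjective φ := by
  haveI : IsFinite W.hom := W.prop.1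
  haveI : Etale W.hom := W.prop.2
  obtain ⟨c₀, hc₀⟩ := exists_chart pP pT W.hom (Classical.arbitrary T)
  obtain ⟨Y', π', l, hl, -, hlπ, hcov⟩ := exists_param pP pT W x₀ j hj₁ hj₂ c₀.A
  haveI : Etale Y'.hom := Y'.prop.2
  let v : ∀ i : Σ c : Chart pP pT W.hom, (c₀.A ≅ c.A),
      pullback (c₀.A.hom ≫ pP) (i.1.u ≫ pT) ⟶ pullback (c₀.A.hom ≫ pP) (Y'.hom ≫ pT) := fun i =>
    pH (c₀.A.hom ≫ pP) (Y'.hom ≫ pT) (l i.1 i.2) (comp_pT pT (hl i.1 i.2))
  have hsq : ∀ i, IsPullback (v i) (pullback.snd _ _) (pullback.snd _ _) (l i.1 i.2) := fun i =>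
    isPullback_pH (c₀.A.hom ≫ pP) (Y'.hom ≫ pT) (l i.1 i.2) (comp_pT pT (hl i.1 i.2))
  have hve : ∀ i, Etale (v i) := fun i => by
    haveI := i.1.et
    haveI : Etale (l i.1 i.2 ≫ Y'.hom) := by rw [hl]; exact i.1.et
    haveI : Etale (l i.1 i.2) := Etale.of_comp _ Y'.hom
    exact MorphismProperty.of_isPullback (P := @Etale) (hsq i).flip ‹Etale (l i.1 i.2)›
  let toC : ∀ i : Σ c : Chart pP pT W.hom, (c₀.A ≅ c.A),
      pullback (c₀.A.hom ≫ pP) (i.1.u ≫ pT) ⟶ pullback i.1.A.hom (pullback.fst pP (i.1.u ≫ pT)) := fun i =>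
    pullback.lift (pullback.fst _ _ ≫ i.2.hom.left)
      (pullback.lift (pullback.fst _ _ ≫ c₀.A.hom) (pullback.snd _ _) ((Category.assoc _ _ _).trans pullback.condition))
      ((Category.assoc _ _ _).trans ((congrArg (_ ≫ ·) (MorphismProperty.Over.w i.2.hom)).trans
        (pullback.lift_fst _ _ _).symm))
  have htoC₁ : ∀ i, toC i ≫ pullback.fst _ _ = pullback.fst _ _ ≫ i.2.hom.left := fun i => pullback.lift_fst _ _ _
  have htoC₂ : ∀ i, toC i ≫ pullback.snd _ _ ≫ pullback.snd _ _ = pullback.snd _ _ := fun i => by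
    rw [pullback.lift_snd_assoc, pullback.lift_snd]
  obtain ⟨φ, hφ, hvφ⟩ := exists_morphism_of_pieces
    (pullback.map (c₀.A.hom ≫ pP) (Y'.hom ≫ pT) pP pT c₀.A.hom Y'.hom (𝟙 _) (Category.comp_id _) (Category.comp_id _))
    W.hom _ v hve (fun w => by
      obtain ⟨c, e, x, hx⟩ := hcov (pullback.snd (c₀.A.hom ≫ pP) (Y'.hom ≫ pT) w)
      obtain ⟨w', hw', -⟩ := Scheme.Pullback.exists_preimage_pullback (f := pullback.snd (c₀.A.hom ≫ pP) (Y'.hom ≫ pT))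
        (g := l c e) w x hx.symm
      refine ⟨⟨c, e⟩, (hsq ⟨c, e⟩).isoPullback.inv w', ?_⟩
      rw [← Scheme.Hom.comp_apply, IsPullback.isoPullback_inv_fst, hw'])
    (fun i => toC i ≫ i.1.q) (fun i => by
      rw [Category.assoc, i.1.sq.w, pullback.lift_snd_assoc]
      apply pullback.hom_ext
      · simp [v]
      · simp [v, hl])
    (fun K _ _ i i' a b hab => by
      have h₁ : a ≫ pullback.fst _ _ = b ≫ pullback.fst _ _ := by
        simpa [v] using congrArg (· ≫ pullback.fst _ _) hab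
      have h₂ : (a ≫ pullback.snd _ _) ≫ l i.1 i.2 = (b ≫ pullback.snd _ _) ≫ l i'.1 i'.2 := by
        simpa [v] using congrArg (· ≫ pullback.snd _ _) hab
      obtain ⟨E, hE, hE'⟩ := exists_tuple_iso pP pT W x₀ j hj₁ hj₂ c₀.A Y' π'
        (fun n => (FEt.fiber x₀).map i.2.hom n) (fun n => (FEt.fiber x₀).map i'.2.hom n)
        (hlπ i.1 i.2) (hlπ i'.1 i'.2) _ _ h₂ ((congrArg ((a ≫ pullback.snd _ _) ≫ ·) (hl i.1 i.2).symm).trans ((Category.assoc _ _ _).symm.trans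
          ((congrArg (· ≫ Y'.hom) h₂).trans ((Category.assoc _ _ _).trans (congrArg (_ ≫ ·) (hl i'.1 i'.2))))))
      have he : i.2.hom ≫ E.hom = i'.2.hom := fiber_ext x₀ fun n =>
        (ConcreteCategory.congr_hom ((FEt.fiber x₀).map_comp i.2.hom E.hom) n).trans (hE n)
      rw [← Category.assoc, ← Category.assoc b]
      refine hE' _ _ _ (𝟙 _) ?_ ?_ ?_
      · rw [Category.assoc, htoC₂, Category.id_comp]
      · rw [Category.assoc, htoC₂, Category.id_comp]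
      · rw [Category.assoc, Category.assoc, reassoc_of% (htoC₁ i), htoC₁, ← reassoc_of% h₁, ← he]
        rfl)
  refine ⟨c₀.A, Y', φ, hφ, ⟨fun w => ?_⟩⟩
  obtain ⟨c, x, hx⟩ := exists_chart pP pT W.hom ((gpt w ≫ W.hom ≫ pullback.snd pP pT) (pt _))
  haveI := c.et
  haveI : LocallyQuasiFinite c.u := locallyQuasiFinite_of_etale _
  obtain ⟨⟨ν, hν⟩, -⟩ := exists_gpt c.u x (gpt w ≫ W.hom ≫ pullback.snd pP pT) hx
  obtain ⟨e⟩ := chart_const pP pT W.hom c₀ c _ _ hc₀ ⟨x, hx⟩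
  have hc : (gpt w ≫ W.hom ≫ pullback.fst pP pT) ≫ pP = ν ≫ c.u ≫ pT := by
    rw [reassoc_of% hν]
    simp only [Category.assoc, pullback.condition]
  obtain ⟨m, hm₁, hm₂⟩ := c.sq.exists_lift (gpt w) (pullback.lift (gpt w ≫ W.hom ≫ pullback.fst pP pT) ν hc) (by
    apply pullback.hom_ext
    · simp
    · simp [hν])
  let a : Spec (CommRingCat.of _) ⟶ pullback (c₀.A.hom ≫ pP) (c.u ≫ pT) :=
    pullback.lift (m ≫ pullback.fst _ _ ≫ e.inv.left) ν (by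
      simp only [Category.assoc]
      rw [reassoc_of% (MorphismProperty.Over.w e.inv), pullback.condition_assoc, reassoc_of% hm₂, pullback.lift_fst_assoc]
      simpa only [Category.assoc] using hc)
  have ha : a ≫ toC ⟨c, e⟩ = m := by
    apply pullback.hom_ext
    · rw [Category.assoc, htoC₁]
      simp only [a, pullback.lift_fst_assoc, Category.assoc]
      rw [show e.inv.left ≫ e.hom.left = 𝟙 _ from congrArg (fun t => t.left) e.inv_hom_id]
      exact congrArg (m ≫ ·) (Category.comp_id _)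
    · rw [hm₂, Category.assoc, pullback.lift_snd]
      apply pullback.hom_ext
      · simp only [a, Category.assoc, pullback.lift_fst, pullback.lift_fst_assoc]
        rw [MorphismProperty.Over.w e.inv, pullback.condition, reassoc_of% hm₂, pullback.lift_fst]
      · simp [a]
  refine ⟨(a ≫ v ⟨c, e⟩) (pt _), ?_⟩
  rw [← Scheme.Hom.comp_apply, Category.assoc, hvφ ⟨c, e⟩, reassoc_of% ha, hm₁]
  exact img_gpt w

end FEtKunneth

end
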