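import Groth.Agent.FEtKunnethLib.Dominate
import Groth.Prelude.Def_Pi1
import Mathlib.CategoryTheory.Galois.Prorepresentability
import Mathlib.CategoryTheory.Conj
import Mathlib.GroupTheory.OrderOfElement

/-! # Covers of a proper connected scheme with a unital multiplication are dominated by powers -/

set_option autoImplicit false
set_option linter.style.haveILetI false
set_option backward.isDefEq.respectTransparency false
set_option backward.isDefEq.respectTransparency.types false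
set_option maxHeartbeats 1000000

universe u

open CategoryTheory CategoryTheory.Limits AlgebraicGeometry WeightLib

noncomputable section

namespace FEtKunneth

variable {Ω : Type u} [Field Ω] {X Y Z : Scheme.{u}}

/-- The action of an automorphism of a fibre functor. -/
abbrev act {ξ : Spec (CommRingCat.of Ω) ⟶ X} (σ : Aut (FEt.fiber ξ)) {V : FEt.Cat X} (s : FEt.fiberObj ξ V) :
    FEt.fiberObj ξ V := σ.hom.app V s

theorem act_map {ξ : Spec (CommRingCat.of Ω) ⟶ X} (σ : Aut (FEt.fiber ξ)) {V V' : FEt.Cat X} (φ : V ⟶ V')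
    (s : FEt.fiberObj ξ V) :
    act σ ((FEt.fiber ξ).map φ s) = (FEt.fiber ξ).map φ (act σ s) :=
  NatTrans.naturality_apply σ.hom φ s

theorem act_mul {ξ : Spec (CommRingCat.of Ω) ⟶ X} (σ τ : Aut (FEt.fiber ξ)) {V : FEt.Cat X}
    (s : FEt.fiberObj ξ V) : act (σ * τ) s = act σ (act τ s) := rfl

theorem act_one {ξ : Spec (CommRingCat.of Ω) ⟶ X} {V : FEt.Cat X} (s : FEt.fiberObj ξ V) :
    act (1 : Aut (FEt.fiber ξ)) s = s := rfl

theorem act_ext {ξ : Spec (CommRingCat.of Ω) ⟶ X} {σ τ : Aut (FEt.fiber ξ)}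
    (h : ∀ (V : FEt.Cat X) (s : FEt.fiberObj ξ V), (act σ s).1 = (act τ s).1) : σ = τ :=
  Iso.ext (NatTrans.ext (funext fun V => ConcreteCategory.hom_ext _ _ fun s => Subtype.ext (h V s)))

/-- Geometric points of a pulled back cover. -/
def fiberPull (f : X ⟶ Y) (ξ : Spec (CommRingCat.of Ω) ⟶ X) {η : Spec (CommRingCat.of Ω) ⟶ Y} (h : ξ ≫ f = η) :
    FEt.restrict f ⋙ FEt.fiber ξ ≅ FEt.fiber η :=
  NatIso.ofComponents
    (fun V => Equiv.toIso
      { toFun := fun s => ⟨s.1 ≫ pullback.fst V.hom f, by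
          rw [Category.assoc, pullback.condition]
          exact (Category.assoc _ _ _).symm.trans ((congrArg (· ≫ f) s.2).trans h)⟩
        invFun := fun t => ⟨pullback.lift t.1 ξ (t.2.trans h.symm), pullback.lift_snd _ _ _⟩
        left_inv := fun s => Subtype.ext (pullback.hom_ext (pullback.lift_fst _ _ _)
          ((pullback.lift_snd _ _ _).trans s.2.symm))
        right_inv := fun t => Subtype.ext (pullback.lift_fst _ _ _) })
    (fun {V V'} φ => ConcreteCategory.hom_ext _ _ fun s => Subtype.ext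
      (show (s.1 ≫ ((FEt.restrict f).map φ).left) ≫ pullback.fst V'.hom f = (s.1 ≫ pullback.fst V.hom f) ≫ φ.left by
        rw [Category.assoc, Category.assoc]
        exact congrArg (s.1 ≫ ·) (pullback.lift_fst _ _ _)))

/-- The map of fundamental groups. -/
def pushAut (f : X ⟶ Y) (ξ : Spec (CommRingCat.of Ω) ⟶ X) {η : Spec (CommRingCat.of Ω) ⟶ Y} (h : ξ ≫ f = η) :
    Aut (FEt.fiber ξ) →* Aut (FEt.fiber η) :=
  (fiberPull f ξ h).conjAut.toMonoidHom.comp (Pi1X.autWhisker (FEt.restrict f) (FEt.fiber ξ))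

theorem act_pushAut (f : X ⟶ Y) (ξ : Spec (CommRingCat.of Ω) ⟶ X) {η : Spec (CommRingCat.of Ω) ⟶ Y}
    (h : ξ ≫ f = η) (σ : Aut (FEt.fiber ξ)) {V : FEt.Cat Y} (t : FEt.fiberObj η V) :
    (act (pushAut f ξ h σ) t).1 = (act (V := (FEt.restrict f).obj V) σ
      ⟨pullback.lift t.1 ξ (t.2.trans h.symm), pullback.lift_snd _ _ _⟩).1 ≫ pullback.fst V.hom f := by
  simp only [pushAut, MonoidHom.coe_comp, Function.comp_apply, MulEquiv.coe_toMonoidHom, Iso.conjAut_apply]
  rfl

theorem pushAut_congr {f g : X ⟶ Y} (e : f = g) (ξ : Spec (CommRingCat.of Ω) ⟶ X)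
    {η : Spec (CommRingCat.of Ω) ⟶ Y} (h : ξ ≫ f = η) : pushAut f ξ h = pushAut g ξ (e ▸ h) := by
  subst e; rfl

theorem pushAut_id (ξ : Spec (CommRingCat.of Ω) ⟶ X) (σ : Aut (FEt.fiber ξ)) :
    pushAut (𝟙 X) ξ (Category.comp_id ξ) σ = σ := by
  refine act_ext fun V t => ?_
  rw [act_pushAut]
  let c : (FEt.restrict (𝟙 X)).obj V ⟶ V :=
    MorphismProperty.Over.homMk (pullback.fst V.hom (𝟙 X)) (pullback.condition.trans (Category.comp_id _))
  show ((FEt.fiber ξ).map c (act σ _)).1 = _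
  rw [← act_map]
  congr 2
  exact Subtype.ext (pullback.lift_fst _ _ _)

theorem pushAut_comp (f : X ⟶ Y) (g : Y ⟶ Z) (ξ : Spec (CommRingCat.of Ω) ⟶ X)
    {η : Spec (CommRingCat.of Ω) ⟶ Y} {ζ : Spec (CommRingCat.of Ω) ⟶ Z} (hf : ξ ≫ f = η) (hg : η ≫ g = ζ)
    (σ : Aut (FEt.fiber ξ)) :
    pushAut g η hg (pushAut f ξ hf σ) = pushAut (f ≫ g) ξ ((Category.assoc _ _ _).symm.trans
      ((congrArg (· ≫ g) hf).trans hg)) σ := by
  refine act_ext fun V t => ?_
  rw [act_pushAut, act_pushAut, act_pushAut]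
  let c : (FEt.restrict f).obj ((FEt.restrict g).obj V) ⟶ (FEt.restrict (f ≫ g)).obj V :=
    MorphismProperty.Over.homMk (pullback.lift (pullback.fst _ _ ≫ pullback.fst V.hom g) (pullback.snd _ _) (by
      rw [Category.assoc, pullback.condition, ← Category.assoc]
      exact (congrArg (· ≫ g) (pullback.condition (f := pullback.snd V.hom g) (g := f))).trans (Category.assoc _ _ _)))
      (pullback.lift_snd _ _ _)
  let t₁ : FEt.fiberObj η ((FEt.restrict g).obj V) :=
    ⟨pullback.lift t.1 η (t.2.trans hg.symm), pullback.lift_snd _ _ _⟩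
  let s₁ : FEt.fiberObj ξ ((FEt.restrict f).obj ((FEt.restrict g).obj V)) :=
    ⟨pullback.lift t₁.1 ξ (t₁.2.trans hf.symm), pullback.lift_snd _ _ _⟩
  let s₂ : FEt.fiberObj ξ ((FEt.restrict (f ≫ g)).obj V) :=
    ⟨pullback.lift t.1 ξ (t.2.trans ((Category.assoc _ _ _).symm.trans
      ((congrArg (· ≫ g) hf).trans hg)).symm), pullback.lift_snd _ _ _⟩
  have hs : (FEt.fiber ξ).map c s₁ = s₂ := by
    refine Subtype.ext (pullback.hom_ext ?_ ?_)
    · show (pullback.lift _ ξ _ ≫ pullback.lift _ _ _) ≫ _ = pullback.lift _ ξ _ ≫ _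
      simp only [Category.assoc, pullback.lift_fst]
      rw [pullback.lift_fst_assoc]
      exact pullback.lift_fst _ _ _
    · show (pullback.lift _ ξ _ ≫ pullback.lift _ _ _) ≫ _ = pullback.lift _ ξ _ ≫ _
      simp only [Category.assoc, pullback.lift_snd]
  show ((act σ s₁).1 ≫ pullback.fst _ f) ≫ pullback.fst V.hom g = (act σ s₂).1 ≫ pullback.fst V.hom (f ≫ g)
  rw [← hs, act_map]
  show _ = ((act σ s₁).1 ≫ pullback.lift _ _ _) ≫ _
  simp only [Category.assoc, pullback.lift_fst]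

/-- The fundamental group of a point is trivial. -/
theorem aut_point_eq_one (τ : Aut (FEt.fiber (𝟙 (Spec (CommRingCat.of Ω))))) : τ = 1 := by
  refine act_ext fun V t => ?_
  let O : FEt.Cat (Spec (CommRingCat.of Ω)) :=
    MorphismProperty.Over.mk ⊤ (𝟙 _) ⟨inferInstance, inferInstance⟩
  let c : O ⟶ V := MorphismProperty.Over.homMk t.1 t.2
  let u : FEt.fiberObj (𝟙 (Spec (CommRingCat.of Ω))) O := ⟨𝟙 _, Category.comp_id _⟩
  have hu : act τ u = u := Subtype.ext ((Category.comp_id _).symm.trans (act τ u).2)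
  have ht : (FEt.fiber _).map c u = t := Subtype.ext (Category.id_comp _)
  rw [act_one, ← ht, act_map, hu]

theorem pushAut_const (e : Spec (CommRingCat.of Ω) ⟶ Y) (p : X ⟶ Spec (CommRingCat.of Ω))
    (ξ : Spec (CommRingCat.of Ω) ⟶ X) (h : ξ ≫ p = 𝟙 _) (h' : ξ ≫ p ≫ e = e) (σ : Aut (FEt.fiber ξ)) :
    pushAut (p ≫ e) ξ h' σ = 1 := by
  rw [← pushAut_comp p e ξ h (Category.id_comp e) σ, aut_point_eq_one (pushAut p ξ h σ), map_one]

variable [IsAlgClosed Ω] (pX : X ⟶ Spec (CommRingCat.of Ω)) [IsProper pX] [ConnectedSpace X]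
  (e : Spec (CommRingCat.of Ω) ⟶ X) (he : e ≫ pX = 𝟙 _)

/-- The diagonal geometric point. -/
abbrev basePair : Spec (CommRingCat.of Ω) ⟶ pullback pX pX := pullback.lift e e rfl

include he in
/-- An automorphism of the fibre functor of a self-product is determined by its projections. -/
theorem eq_one_of_proj [IsLocallyNoetherian X] (σ : Aut (FEt.fiber (basePair pX e)))
    (h₁ : pushAut (pullback.fst pX pX) (basePair pX e) (pullback.lift_fst _ _ _) σ = 1)
    (h₂ : pushAut (pullback.snd pX pX) (basePair pX e) (pullback.lift_snd _ _ _) σ = 1) : σ = 1 := by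
  refine act_ext fun W s => ?_
  obtain ⟨X', Y', φ, hφ, hsurj⟩ := exists_dominated pX pX W e (pullback.lift (pX ≫ e) (𝟙 X)
    (by rw [Category.assoc, he, Category.comp_id, Category.id_comp])) (pullback.lift_fst _ _ _) (pullback.lift_snd _ _ _)
  let μ : pullback (X'.hom ≫ pX) (Y'.hom ≫ pX) ⟶ pullback pX pX :=
    pullback.map (X'.hom ≫ pX) (Y'.hom ≫ pX) pX pX X'.hom Y'.hom (𝟙 _) (Category.comp_id _) (Category.comp_id _)
  have hμ : FEt.prop μ := MorphismProperty.pullbackMap (P := FEt.prop.{u}) X'.prop Y'.prop rfl rfl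
  let V : FEt.Cat (pullback pX pX) := MorphismProperty.Over.mk ⊤ μ hμ
  let c : V ⟶ W := MorphismProperty.Over.homMk φ hφ
  haveI : Etale μ := hμ.2
  haveI : Etale W.hom := W.prop.2
  haveI : Etale (φ ≫ W.hom) := by rw [hφ]; exact hμ.2
  haveI : Etale φ := Etale.of_comp φ W.hom
  haveI : LocallyQuasiFinite φ := locallyQuasiFinite_of_etale _
  obtain ⟨w, hw⟩ := hsurj.surj (s.1 (IsLocalRing.closedPoint Ω))
  obtain ⟨⟨v, hv⟩, -⟩ := exists_gpt φ w s.1 hw
  let t : FEt.fiberObj (basePair pX e) V :=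
    ⟨v, show v ≫ μ = _ by rw [show μ = φ ≫ W.hom from hφ.symm, reassoc_of% hv]; exact s.2⟩
  have hts : (FEt.fiber _).map c t = s := Subtype.ext hv
  let p₁ : V ⟶ (FEt.restrict (pullback.fst pX pX)).obj X' := MorphismProperty.Over.homMk
    (pullback.lift (pullback.fst (X'.hom ≫ pX) (Y'.hom ≫ pX)) μ (pullback.lift_fst _ _ _).symm) (pullback.lift_snd _ _ _)
  let p₂ : V ⟶ (FEt.restrict (pullback.snd pX pX)).obj Y' := MorphismProperty.Over.homMk
    (pullback.lift (pullback.snd (X'.hom ≫ pX) (Y'.hom ≫ pX)) μ (pullback.lift_snd _ _ _).symm) (pullback.lift_snd _ _ _)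
  have key : ∀ (q : pullback pX pX ⟶ X) (hq : basePair pX e ≫ q = e) (A : FEt.Cat X)
      (p : V ⟶ (FEt.restrict q).obj A), pushAut q (basePair pX e) hq σ = 1 →
      (act σ t).1 ≫ p.left ≫ pullback.fst A.hom q = t.1 ≫ p.left ≫ pullback.fst A.hom q := fun q hq A p h => by
    let t' : FEt.fiberObj e A := ⟨t.1 ≫ p.left ≫ pullback.fst A.hom q, by
      simp only [Category.assoc]
      rw [pullback.condition]
      exact (congrArg (t.1 ≫ ·) ((Category.assoc _ _ _).symm.trans (congrArg (· ≫ q) (MorphismProperty.Over.w p)))).trans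
        ((Category.assoc _ _ _).symm.trans ((congrArg (· ≫ q) t.2).trans hq))⟩
    have h' := act_pushAut q (basePair pX e) hq σ t'
    rw [h, act_one] at h'
    refine Eq.trans ?_ h'.symm
    rw [show (⟨pullback.lift t'.1 (basePair pX e) (t'.2.trans hq.symm), pullback.lift_snd _ _ _⟩ :
      FEt.fiberObj (basePair pX e) ((FEt.restrict q).obj A)) = (FEt.fiber _).map p t from Subtype.ext
        (pullback.hom_ext ((pullback.lift_fst _ _ _).trans (Category.assoc _ _ _).symm)
          ((pullback.lift_snd _ _ _).trans (((FEt.fiber _).map p t).2).symm)), act_map]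
    exact (Category.assoc _ _ _).symm
  have ht : act σ t = t := Subtype.ext (pullback.hom_ext
    (by simpa [p₁] using key _ (pullback.lift_fst _ _ _) X' p₁ h₁)
    (by simpa [p₂] using key _ (pullback.lift_snd _ _ _) Y' p₂ h₂))
  rw [act_one, ← hts, act_map, ht]

variable (m : pullback pX pX ⟶ X) (N : ℕ → (X ⟶ X)) (hNp : ∀ n, N n ≫ pX = pX)

include he in
/-- The powers act as powers on the fundamental group. -/
theorem pushAut_pow [IsLocallyNoetherian X]
    (hm₁ : pullback.lift (𝟙 X) (pX ≫ e) (by rw [Category.assoc, he, Category.comp_id, Category.id_comp]) ≫ m = 𝟙 X)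
    (hm₂ : pullback.lift (pX ≫ e) (𝟙 X) (by rw [Category.assoc, he, Category.comp_id, Category.id_comp]) ≫ m = 𝟙 X)
    (hN₀ : N 0 = pX ≫ e)
    (hN : ∀ n, N (n + 1) = pullback.lift (𝟙 X) (N n) ((Category.id_comp _).trans (hNp n).symm) ≫ m) (n : ℕ) :
    ∃ h : e ≫ N n = e, ∀ σ : Aut (FEt.fiber e), pushAut (N n) e h σ = σ ^ n := by
  induction n with
  | zero =>
    refine ⟨by rw [hN₀, reassoc_of% he], fun σ => ?_⟩
    rw [pushAut_congr hN₀, pow_zero]
    exact pushAut_const e pX e he _ σ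
  | succ n ih =>
    obtain ⟨hn, ih⟩ := ih
    let i₁ : X ⟶ pullback pX pX :=
      pullback.lift (𝟙 X) (pX ≫ e) (by rw [Category.assoc, he, Category.comp_id, Category.id_comp])
    let i₂ : X ⟶ pullback pX pX :=
      pullback.lift (pX ≫ e) (𝟙 X) (by rw [Category.assoc, he, Category.comp_id, Category.id_comp])
    let l : X ⟶ pullback pX pX := pullback.lift (𝟙 X) (N n) ((Category.id_comp _).trans (hNp n).symm)
    have hi₁ : e ≫ i₁ = basePair pX e := by apply pullback.hom_ext <;> simp [i₁, reassoc_of% he]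
    have hi₂ : e ≫ i₂ = basePair pX e := by apply pullback.hom_ext <;> simp [i₂, reassoc_of% he]
    have hl : e ≫ l = basePair pX e := by apply pullback.hom_ext <;> simp [l, hn]
    have hm : basePair pX e ≫ m = e := by rw [← hi₁, Category.assoc, hm₁, Category.comp_id]
    refine ⟨by rw [hN, ← Category.assoc]; exact (congrArg (· ≫ m) hl).trans hm, fun σ => ?_⟩
    rw [pushAut_congr (hN n), ← pushAut_comp l m e hl hm σ]
    have key : pushAut l e hl σ = pushAut i₁ e hi₁ σ * pushAut i₂ e hi₂ (σ ^ n) := by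
      rw [← mul_inv_eq_one]
      refine eq_one_of_proj pX e he _ ?_ ?_
      · rw [map_mul, map_inv, map_mul, pushAut_comp, pushAut_comp, pushAut_comp, mul_inv_eq_one,
          pushAut_congr (pullback.lift_fst _ _ _ : l ≫ _ = _), pushAut_id,
          pushAut_congr (pullback.lift_fst _ _ _ : i₁ ≫ _ = _), pushAut_id,
          pushAut_congr (pullback.lift_fst _ _ _ : i₂ ≫ _ = _), pushAut_const e pX e he, mul_one]
      · rw [map_mul, map_inv, map_mul, pushAut_comp, pushAut_comp, pushAut_comp, mul_inv_eq_one,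
          pushAut_congr (pullback.lift_snd _ _ _ : l ≫ _ = _), ih,
          pushAut_congr (pullback.lift_snd _ _ _ : i₁ ≫ _ = _), pushAut_const e pX e he,
          pushAut_congr (pullback.lift_snd _ _ _ : i₂ ≫ _ = _), pushAut_id, one_mul]
    rw [key, map_mul, pushAut_comp, pushAut_comp, pushAut_congr hm₁, pushAut_id, pushAut_congr hm₂, pushAut_id,
      pow_succ']

/-- The action of the fundamental group on a fibre. -/
def permHom (ξ : Spec (CommRingCat.of Ω) ⟶ X) (V : FEt.Cat X) :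
    Aut (FEt.fiber ξ) →* Equiv.Perm (FEt.fiberObj ξ V) where
  toFun σ := (σ.app V).toEquiv
  map_one' := rfl
  map_mul' _ _ := rfl

/-- A point fixed by the fundamental group gives a section. -/
theorem exists_section_of_fixed (ξ : Spec (CommRingCat.of Ω) ⟶ X) (V : FEt.Cat X) (s : FEt.fiberObj ξ V)
    (hs : ∀ σ : Aut (FEt.fiber ξ), act σ s = s) : ∃ g : X ⟶ V.left, g ≫ V.hom = 𝟙 X := by
  letI := FEtColim.preGaloisCategory X
  haveI := (FEtColim.fiberFunctor ξ).some
  haveI : GaloisCategory (FEt.Cat X) := { hasFiberFunctor := ⟨_, FEtColim.fiberFunctor ξ⟩ }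
  obtain ⟨C, i, c₀, hc₀, hC, hi⟩ := PreGaloisCategory.fiber_in_connected_component (FEtColim.finFiber ξ) V s
  have hfix : ∀ c : FEt.fiberObj ξ C, c = c₀ := fun c => by
    obtain ⟨σ, hσ⟩ := MulAction.exists_smul_eq (Aut (FEtColim.finFiber ξ)) c₀ c
    let σ' : Aut (FEt.fiber ξ) :=
      (FEtColim.finFiberCompIncl ξ).conjAut (Functor.isoWhiskerRight σ FintypeCat.incl)
    have h' : act σ' c₀ = c := hσ
    apply FEtColim.injective_fmap_of_mono ξ i
    show (FEt.fiber ξ).map i c = (FEt.fiber ξ).map i c₀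
    rw [← h', ← act_map, show (FEt.fiber ξ).map i c₀ = s from hc₀, hs σ']
  let O : FEt.Cat X := MorphismProperty.Over.mk ⊤ (𝟙 X) ⟨inferInstance, inferInstance⟩
  let π : C ⟶ O := MorphismProperty.Over.homMk C.hom (Category.comp_id _)
  haveI : IsIso π := FEtColim.isIso_of_bijective ξ π ⟨fun a b _ => (hfix a).trans (hfix b).symm, fun o =>
    ⟨c₀, Subtype.ext ((Category.comp_id _).symm.trans (((FEt.fiber ξ).map π c₀).2.trans
      (o.2.symm.trans (Category.comp_id _))))⟩⟩
  exact ⟨(inv π).left ≫ i.left, (Category.assoc _ _ _).trans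
    ((congrArg ((inv π).left ≫ ·) (MorphismProperty.Over.w i)).trans
      (show (inv π).left ≫ π.left = 𝟙 _ from congrArg (fun t => t.left) (IsIso.inv_hom_id π)))⟩

include he in
/-- Every cover is dominated by a power of the multiplication. -/
theorem exists_lift_pow [IsLocallyNoetherian X]
    (hm₁ : pullback.lift (𝟙 X) (pX ≫ e) (by rw [Category.assoc, he, Category.comp_id, Category.id_comp]) ≫ m = 𝟙 X)
    (hm₂ : pullback.lift (pX ≫ e) (𝟙 X) (by rw [Category.assoc, he, Category.comp_id, Category.id_comp]) ≫ m = 𝟙 X)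
    (hN₀ : N 0 = pX ≫ e)
    (hN : ∀ n, N (n + 1) = pullback.lift (𝟙 X) (N n) ((Category.id_comp _).trans (hNp n).symm) ≫ m)
    (V : FEt.Cat X) (hV : Nonempty (FEt.fiberObj e V)) :
    ∃ d : ℕ, 1 ≤ d ∧ ∃ ψ : X ⟶ V.left, ψ ≫ V.hom = N d := by
  classical
  haveI := FEtColim.finite_fiberObj e V
  haveI := Fintype.ofFinite (FEt.fiberObj e V)
  let d := Fintype.card (Equiv.Perm (FEt.fiberObj e V))
  obtain ⟨hd, hpow⟩ := pushAut_pow pX e he m N hNp hm₁ hm₂ hN₀ hN d
  obtain ⟨t⟩ := hV
  let s : FEt.fiberObj e ((FEt.restrict (N d)).obj V) :=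
    ⟨pullback.lift t.1 e (t.2.trans hd.symm), pullback.lift_snd _ _ _⟩
  obtain ⟨g, hg⟩ := exists_section_of_fixed e ((FEt.restrict (N d)).obj V) s fun σ => by
    have h := act_pushAut (N d) e hd σ t
    rw [hpow σ] at h
    have hfix : act (σ ^ d) t = t :=
      congrArg (fun p : Equiv.Perm (FEt.fiberObj e V) => p t) ((map_pow (permHom e V) σ d).trans pow_card_eq_one)
    rw [hfix] at h
    exact Subtype.ext (pullback.hom_ext (h.symm.trans (pullback.lift_fst _ _ _).symm)
      ((act σ s).2.trans (pullback.lift_snd _ _ _).symm))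
  exact ⟨d, Fintype.card_pos, g ≫ pullback.fst V.hom (N d), by
    rw [Category.assoc, pullback.condition]
    exact (Category.assoc _ _ _).symm.trans ((congrArg (· ≫ N d) hg).trans (Category.id_comp _))⟩

end FEtKunneth

end
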