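import Groth.Agent.FEtKunnethLib.Const
import Groth.Prelude.Def_PiSp
import Mathlib.AlgebraicGeometry.Group.Abelian

/-! # Multiplication by an integer on an abelian variety as a Galois cover -/

set_option autoImplicit false
set_option linter.style.haveILetI false
set_option backward.isDefEq.respectTransparency false
set_option backward.isDefEq.respectTransparency.types false
set_option maxHeartbeats 1000000

universe u

open CategoryTheory CategoryTheory.Limits MonoidalCategory CartesianMonoidalCategory MonObj GrpObj AlgebraicGeometry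

noncomputable section

namespace FEtKunneth

/-- Two morphisms to a separated unramified scheme from a connected scheme agreeing at a point are equal. -/
theorem eq_of_point {Y Z S : Scheme.{u}} [ConnectedSpace Y] (h : Z ⟶ S) [Etale h] [IsSeparated h] (f g : Y ⟶ Z)
    (hfg : f ≫ h = g ≫ h) {T : Scheme.{u}} [Nonempty T] (s : T ⟶ Y) (hs : s ≫ f = s ≫ g) : f = g := by
  let l : Y ⟶ pullback h h := pullback.lift f g hfg
  have hu : l ⁻¹' Set.range (pullback.diagonal h) = Set.univ := by
    refine IsClopen.eq_univ ⟨(pullback.diagonal h).isClosedEmbedding.isClosed_range.preimage l.continuous,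
      (pullback.diagonal h).isOpenEmbedding.isOpen_range.preimage l.continuous⟩ ?_
    obtain ⟨x⟩ := (inferInstance : Nonempty T)
    refine ⟨s x, (s ≫ f) x, ?_⟩
    rw [← Scheme.Hom.comp_apply, ← Scheme.Hom.comp_apply]
    exact congrArg (fun m : T ⟶ pullback h h => m x) (pullback.hom_ext (by simp [l]) (by simp [l, hs]))
  have hr : Set.range l ⊆ Set.range (pullback.diagonal h) := Set.range_subset_iff.2 fun y => (Set.eq_univ_iff_forall.1 hu) y
  have hl : IsOpenImmersion.lift (pullback.diagonal h) l hr ≫ pullback.diagonal h = l := IsOpenImmersion.lift_fac _ _ _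
  have h1 := congrArg (· ≫ pullback.fst h h) hl
  have h2 := congrArg (· ≫ pullback.snd h h) hl
  simp only [Category.assoc, pullback.diagonal_fst, pullback.diagonal_snd, Category.comp_id, l, pullback.lift_fst,
    pullback.lift_snd] at h1 h2
  exact h1.symm.trans h2

variable {k : Type u} [Field k] [IsAlgClosed k] (A : Over (Spec (CommRingCat.of k))) [GrpObj A] [IsProper A.hom]
  [GeometricallyIntegral A.hom]

/-- Translation by a rational point. -/
abbrev transl (a : 𝟙_ (Over (Spec (CommRingCat.of k))) ⟶ A) : A ⟶ A := 𝟙 A * (toUnit A ≫ a)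

theorem transl_comp_transl (a b : 𝟙_ (Over (Spec (CommRingCat.of k))) ⟶ A) :
    transl A a ≫ transl A b = transl A (a * b) := by
  rw [transl, transl, transl, MonObj.comp_mul, Category.comp_id, ← Category.assoc, comp_toUnit, MonObj.comp_mul,
    _root_.mul_assoc]

theorem transl_one : transl A 1 = 𝟙 A := by
  rw [transl, MonObj.comp_one, _root_.mul_one]

variable (n : ℤ)

theorem transl_comp_pow (a : 𝟙_ (Over (Spec (CommRingCat.of k))) ⟶ A) (ha : a ^ n = 1) :
    transl A a ≫ (𝟙 A) ^ n = (𝟙 A) ^ n := by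
  haveI : IsCommMonObj A := isCommMonObj_of_isProper_of_geometricallyIntegral A
  rw [GrpObj.comp_zpow, Category.comp_id, transl, mul_zpow, ← GrpObj.comp_zpow, ha, MonObj.comp_one, _root_.mul_one]

variable [IsFinite ((𝟙 A) ^ n).left] [Etale ((𝟙 A) ^ n).left]

/-- The multiplication by an integer as a cover. -/
abbrev mulCover : FEt.Cat A.left :=
  MorphismProperty.Over.mk ⊤ ((𝟙 A) ^ n).left ⟨‹IsFinite ((𝟙 A) ^ n).left›, ‹Etale ((𝟙 A) ^ n).left›⟩

theorem exists_translAut (a : 𝟙_ (Over (Spec (CommRingCat.of k))) ⟶ A) (ha : a ^ n = 1) :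
    ∃ θ : Aut (mulCover A n), θ.hom.left = (transl A a).left := by
  let e : A ≅ A := ⟨transl A a, transl A a⁻¹, by rw [transl_comp_transl, mul_inv_cancel, transl_one],
    by rw [transl_comp_transl, inv_mul_cancel, transl_one]⟩
  exact ⟨MorphismProperty.Over.isoMk ((Over.forget _).mapIso e)
    (congrArg CommaMorphism.left (transl_comp_pow A n a ha)), rfl⟩

omit [IsProper A.hom] [GeometricallyIntegral A.hom] in
theorem point_comp_transl {T : Over (Spec (CommRingCat.of k))} (s : T ⟶ A) (a : 𝟙_ (Over (Spec (CommRingCat.of k))) ⟶ A) :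
    s ≫ transl A a = s * (toUnit T ≫ a) := by
  rw [transl, MonObj.comp_mul, Category.comp_id, ← Category.assoc, comp_toUnit]

theorem existsUnique_torsion (θ : Aut (mulCover A n)) :
    ∃! a : 𝟙_ (Over (Spec (CommRingCat.of k))) ⟶ A, a ^ n = 1 ∧ θ.hom.left = (transl A a).left := by
  haveI : IsIntegral A.left := GeometricallyIntegral.isIntegral_of_subsingleton A.hom
  have hw : θ.hom.left ≫ ((𝟙 A) ^ n).left = ((𝟙 A) ^ n).left := MorphismProperty.Over.w θ.hom
  let t : A ⟶ A := Over.homMk θ.hom.left (by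
    show θ.hom.left ≫ A.hom = A.hom
    have h := congrArg (· ≫ A.hom) hw
    simp only [Category.assoc, Over.w] at h
    exact h)
  have ht : t ≫ (𝟙 A) ^ n = (𝟙 A) ^ n := Over.OverMorphism.ext hw
  let a : 𝟙_ (Over (Spec (CommRingCat.of k))) ⟶ A := (1 : 𝟙_ (Over (Spec (CommRingCat.of k))) ⟶ A) ≫ t
  have ha : a ^ n = 1 := by
    rw [show a ^ n = a ≫ (𝟙 A) ^ n by rw [GrpObj.comp_zpow, Category.comp_id], Category.assoc, ht,
      GrpObj.comp_zpow, Category.comp_id, one_zpow]
  have h1 : ∀ b, (1 : 𝟙_ (Over (Spec (CommRingCat.of k))) ⟶ A) ≫ transl A b = b := fun b => by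
    rw [point_comp_transl, _root_.one_mul, toUnit_unique (toUnit _) (𝟙 _), Category.id_comp]
  refine ⟨a, ⟨ha, ?_⟩, fun b hb => ?_⟩
  · haveI : ConnectedSpace (mulCover A n).left := (inferInstance : ConnectedSpace A.left)
    haveI : Nonempty (𝟙_ (Over (Spec (CommRingCat.of k)))).left := inferInstanceAs (Nonempty (PrimeSpectrum k))
    refine eq_of_point ((𝟙 A) ^ n).left θ.hom.left (transl A a).left
      (hw.trans (congrArg CommaMorphism.left (transl_comp_pow A n a ha)).symm)
      (1 : 𝟙_ (Over (Spec (CommRingCat.of k))) ⟶ A).left ?_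
    exact congrArg CommaMorphism.left (h1 a).symm
  · rw [← h1 b]
    refine congrArg ((1 : 𝟙_ (Over (Spec (CommRingCat.of k))) ⟶ A) ≫ ·) ?_
    exact Over.OverMorphism.ext hb.2.symm

theorem isGaloisCover_mul : PiSp.IsGaloisCover (mulCover A n) := by
  haveI : IsIntegral A.left := GeometricallyIntegral.isIntegral_of_subsingleton A.hom
  haveI : IsCommMonObj A := isCommMonObj_of_isProper_of_geometricallyIntegral A
  refine ⟨(inferInstance : ConnectedSpace A.left), fun Ω _ _ ξ s t => ?_⟩
  let T : Over (Spec (CommRingCat.of k)) := Over.mk (ξ ≫ A.hom)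
  have hs : s.1 ≫ A.hom = ξ ≫ A.hom := by
    have h := congrArg (· ≫ A.hom) s.2
    simpa only [Category.assoc, MorphismProperty.Over.mk_hom, Over.w] using h
  have ht : t.1 ≫ A.hom = ξ ≫ A.hom := by
    have h := congrArg (· ≫ A.hom) t.2
    simpa only [Category.assoc, MorphismProperty.Over.mk_hom, Over.w] using h
  let s' : T ⟶ A := Over.homMk s.1 hs
  let t' : T ⟶ A := Over.homMk t.1 ht
  have hst : s' ^ n = t' ^ n := by
    rw [show s' ^ n = s' ≫ (𝟙 A) ^ n by rw [GrpObj.comp_zpow, Category.comp_id],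
      show t' ^ n = t' ≫ (𝟙 A) ^ n by rw [GrpObj.comp_zpow, Category.comp_id]]
    exact Over.OverMorphism.ext (s.2.trans t.2.symm)
  let d : T ⟶ A := s'⁻¹ * t'
  have hd : d ≫ (𝟙 A) ^ n = toUnit T ≫ 1 := by
    rw [GrpObj.comp_zpow, Category.comp_id, MonObj.comp_one, mul_zpow, inv_zpow, hst, inv_mul_cancel]
  obtain ⟨⟨a₀, ha₀⟩, hκ⟩ := exists_rat_point (mulCover A n) (1 : 𝟙_ (Over (Spec (CommRingCat.of k))) ⟶ A).left T.hom
    d.left (congrArg CommaMorphism.left hd)
  let a : 𝟙_ (Over (Spec (CommRingCat.of k))) ⟶ A := Over.homMk a₀ (by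
    have h := congrArg (· ≫ A.hom) ha₀
    simpa only [Category.assoc, MorphismProperty.Over.mk_hom, Over.w] using h)
  have ha : a ^ n = 1 := by
    rw [show a ^ n = a ≫ (𝟙 A) ^ n by rw [GrpObj.comp_zpow, Category.comp_id]]
    exact Over.OverMorphism.ext ha₀
  have hda : toUnit T ≫ a = d := Over.OverMorphism.ext hκ
  obtain ⟨θ, hθ⟩ := exists_translAut A n a ha
  refine ⟨θ, Subtype.ext ?_⟩
  show s.1 ≫ θ.hom.left = t.1
  rw [hθ]
  have e : s' ≫ transl A a = t' := by
    rw [point_comp_transl, hda, mul_inv_cancel_left]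
  exact congrArg CommaMorphism.left e

end FEtKunneth

end
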